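import Groth.Agent.IdealSh.EffCartier
import Groth.Agent.IdealSh.Extend
import Mathlib.RingTheory.Ideal.Colon
import Mathlib.RingTheory.Finiteness.Ideal

/-!
# Dividing by an effective Cartier ideal sheaf
-/

set_option autoImplicit false

universe u

open CategoryTheory AlgebraicGeometry TopologicalSpace
open Groth.Agent.IdealSh

namespace Groth.Agent.ModPairLib.Divide

variable {X : Scheme.{u}}

/-- An ideal sheaf generated near every point by finitely many sections is of finite type. -/
lemma isFiniteTypeIdeal_of_local {E : X.IdealSheafData}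
    (h : ∀ x : X, ∃ U : X.affineOpens, x ∈ U.1 ∧ (E.ideal U).FG) :
    BlowUp.IsFiniteTypeIdeal E := fun T => by
  refine Extend.fg_of_forall_exists T fun x hx => ?_
  obtain ⟨U, hxU, hfg⟩ := h x
  obtain ⟨f, hf, hxf⟩ := T.2.exists_basicOpen_le ⟨x, hxU⟩ hx
  refine ⟨f, hxf, ?_⟩
  rw [← E.map_ideal (U := X.affineBasicOpen f) (V := U) hf]
  exact Ideal.FG.map hfg _

lemma isFiniteTypeIdeal_of_effCartier {E : X.IdealSheafData} (hE : BlowUp.IsEffCartierIdeal E) :
    BlowUp.IsFiniteTypeIdeal E := isFiniteTypeIdeal_of_local fun x => by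
  obtain ⟨U, hxU, e, -, he⟩ := hE x
  exact ⟨U, hxU, he ▸ (Submodule.fg_span_singleton e)⟩

lemma isFiniteTypeIdeal_sup {A B : X.IdealSheafData} (hA : BlowUp.IsEffCartierIdeal A)
    (hB : BlowUp.IsEffCartierIdeal B) : BlowUp.IsFiniteTypeIdeal (A ⊔ B) := fun T => by
  rw [Scheme.IdealSheafData.ideal_sup, Pi.sup_apply]
  exact Submodule.FG.sup (isFiniteTypeIdeal_of_effCartier hA T) (isFiniteTypeIdeal_of_effCartier hB T)

/-- Colon ideals commute with localisation when the divisor is finitely generated. -/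
lemma map_colon {R S : Type u} [CommRing R] [CommRing S] (φ : R →+* S) (f : R)
    (hloc : letI := φ.toAlgebra; IsLocalization.Away f S) (A E : Ideal R) (hE : E.FG) :
    Ideal.map φ (A.colon (E : Set R)) = (A.map φ).colon (E.map φ : Set S) := by
  letI := φ.toAlgebra
  have : IsLocalization.Away f S := hloc
  refine le_antisymm ?_ fun z hz => ?_
  · rw [Ideal.map_le_iff_le_comap]
    intro x hx
    rw [Ideal.mem_comap, Submodule.mem_colon]
    intro e he
    exact Submodule.span_induction (p := fun e _ => φ x * e ∈ A.map φ)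
      (by rintro _ ⟨e, he, rfl⟩
          rw [← map_mul]
          exact Ideal.mem_map_of_mem φ (Submodule.mem_colon.1 hx e he))
      (by rw [mul_zero]; exact zero_mem _)
      (fun a b _ _ ha hb => by rw [mul_add]; exact add_mem ha hb)
      (fun r a _ ha => by rw [smul_eq_mul, mul_left_comm]; exact Ideal.mul_mem_left _ r ha) he
  · obtain ⟨⟨x, s⟩, hxs⟩ := IsLocalization.surj (Submonoid.powers f) z
    have hu := IsLocalization.map_units S s
    have hx : φ x = z * φ s.1 := hxs.symm
    obtain ⟨G, hG⟩ := hE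
    have hkey : ∀ e ∈ G, ∃ n : ℕ, f ^ n * (x * e) ∈ A := by
      intro e he
      have h2 : φ (x * e) ∈ A.map φ := by
        rw [map_mul, hx, mul_right_comm]
        exact Ideal.mul_mem_right _ _ (Submodule.mem_colon.1 hz _
          (Ideal.mem_map_of_mem φ (hG ▸ Submodule.subset_span he)))
      obtain ⟨m, hm, hmem⟩ :=
        (IsLocalization.algebraMap_mem_map_algebraMap_iff (Submonoid.powers f) S A (x * e)).1 h2
      obtain ⟨n, rfl⟩ := hm
      exact ⟨n, hmem⟩
    choose! n hn using hkey
    have hmem : f ^ (G.sup n) * x ∈ A.colon (E : Set R) := by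
      rw [Submodule.mem_colon]
      intro e he
      rw [SetLike.mem_coe, ← hG] at he
      exact Submodule.span_induction (p := fun e _ => (f ^ (G.sup n) * x) • e ∈ A)
        (fun e he => by
          rw [smul_eq_mul, mul_assoc, ← Nat.sub_add_cancel (Finset.le_sup (f := n) he),
            pow_add, mul_assoc]
          exact Ideal.mul_mem_left _ _ (hn e he))
        (by rw [smul_zero]; exact zero_mem _)
        (fun a b _ _ ha hb => by rw [smul_add]; exact add_mem ha hb)
        (fun r a _ ha => by
          rw [smul_eq_mul, smul_eq_mul, mul_left_comm]; exact Ideal.mul_mem_left _ r ha) he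
    have h3 := Ideal.mem_map_of_mem φ hmem
    rw [map_mul, map_pow, hx] at h3
    have hf : IsUnit (φ f) := IsLocalization.Away.algebraMap_isUnit f
    rw [Ideal.unit_mul_mem_iff_mem _ (hf.pow _)] at h3
    exact (Ideal.mul_unit_mem_iff_mem _ hu).1 h3

/-- The colon ideal sheaf `A : E` of an ideal sheaf by a finite type one. -/
noncomputable def quot (A E : X.IdealSheafData) (hE : BlowUp.IsFiniteTypeIdeal E) :
    X.IdealSheafData where
  ideal U := (A.ideal U).colon (E.ideal U : Set Γ(X, U.1))
  map_ideal_basicOpen U f := by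
    rw [← A.map_ideal_basicOpen U f, ← E.map_ideal_basicOpen U f]
    exact map_colon _ f (U.2.isLocalization_basicOpen f) _ _ (hE U)

lemma ideal_quot (A E : X.IdealSheafData) (hE : BlowUp.IsFiniteTypeIdeal E) (U : X.affineOpens) :
    (quot A E hE).ideal U = (A.ideal U).colon (E.ideal U : Set Γ(X, U.1)) := rfl

/-- Division by an effective Cartier ideal sheaf containing `A`. -/
lemma quot_mul_eq {A E : X.IdealSheafData} (hE : BlowUp.IsEffCartierIdeal E) (h : A ≤ E) :
    quot A E (isFiniteTypeIdeal_of_effCartier hE) * E = A := by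
  refine Comap.ext_of_forall_exists _ _ fun x => ?_
  obtain ⟨U, hxU, e, he, hUe⟩ := hE x
  refine ⟨U, hxU, ?_⟩
  rw [Scheme.IdealSheafData.ideal_mul, Pi.mul_apply, ideal_quot, hUe]
  refine le_antisymm ?_ fun a ha => ?_
  · rw [Ideal.mul_le]
    exact fun r hr s hs => Submodule.mem_colon.1 hr s hs
  · obtain ⟨c, rfl⟩ := Ideal.mem_span_singleton'.1 (hUe.le (h U ha))
    refine Ideal.mul_mem_mul (Submodule.mem_colon.2 fun s hs => ?_) (Ideal.mem_span_singleton_self e)
    obtain ⟨d, rfl⟩ := Ideal.mem_span_singleton'.1 hs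
    rw [smul_eq_mul, mul_left_comm]
    exact Ideal.mul_mem_left _ d ha

/-- An effective Cartier ideal sheaf can be cancelled. -/
lemma le_of_mul_le_mul {J K E : X.IdealSheafData} (hE : BlowUp.IsEffCartierIdeal E)
    (h : J * E ≤ K * E) : J ≤ K := by
  choose U hxU e he hUe using hE
  refine Scheme.IdealSheafData.le_of_iSup_eq_top U
    (top_unique fun x _ => Opens.mem_iSup.2 ⟨x, hxU x⟩) fun x => ?_
  intro a ha
  have h1 : a * e x ∈ (K * E).ideal (U x) := by
    refine h (U x) ?_
    rw [Scheme.IdealSheafData.ideal_mul, Pi.mul_apply, hUe]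
    exact Ideal.mul_mem_mul ha (Ideal.mem_span_singleton_self _)
  rw [Scheme.IdealSheafData.ideal_mul, Pi.mul_apply, hUe, Ideal.mem_mul_span_singleton] at h1
  obtain ⟨c, hc, hce⟩ := h1
  rwa [(mul_cancel_right_mem_nonZeroDivisors (he x)).1 hce] at hc

lemma eq_of_mul_eq_mul {J K E : X.IdealSheafData} (hE : BlowUp.IsEffCartierIdeal E)
    (h : J * E = K * E) : J = K :=
  le_antisymm (le_of_mul_le_mul hE h.le) (le_of_mul_le_mul hE h.ge)

lemma mul_mono {A B C D : X.IdealSheafData} (h : A ≤ B) (h' : C ≤ D) : A * C ≤ B * D := fun U => by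
  simp only [Scheme.IdealSheafData.ideal_mul, Pi.mul_apply]
  exact Ideal.mul_mono (h U) (h' U)

/-- `D_A + D_B - E` lies in every divisor containing `D_A` and `D_B`. -/
lemma le_of_le_of_le {A B K D : X.IdealSheafData} (hE : BlowUp.IsEffCartierIdeal (A ⊔ B))
    (hK : K * (A ⊔ B) = A * B) (hA : D ≤ A) (hB : D ≤ B) : D ≤ K := by
  refine le_of_mul_le_mul hE ?_
  rw [hK, Scheme.IdealSheafData.mul_inf]
  refine sup_le ?_ ?_
  · rw [mul_comm D A]; exact mul_mono le_rfl hB
  · exact mul_mono hA le_rfl

/-- `D_A + D_B - E` contains `D_A`. -/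
lemma le_left {A B K : X.IdealSheafData} (hE : BlowUp.IsEffCartierIdeal (A ⊔ B))
    (hK : K * (A ⊔ B) = A * B) : K ≤ A :=
  le_of_mul_le_mul hE (by rw [hK]; exact mul_mono le_rfl le_sup_right)

lemma le_right {A B K : X.IdealSheafData} (hE : BlowUp.IsEffCartierIdeal (A ⊔ B))
    (hK : K * (A ⊔ B) = A * B) : K ≤ B :=
  le_of_mul_le_mul hE (by rw [hK, mul_comm A B]; exact mul_mono le_rfl le_sup_left)

lemma mul_le_left (A B : X.IdealSheafData) : A * B ≤ A := fun U => by
  simp only [Scheme.IdealSheafData.ideal_mul, Pi.mul_apply]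
  exact Ideal.mul_le_left

/-- The support of `D_A + D_B - E` is the union of the two supports. -/
lemma support_eq {A B K : X.IdealSheafData} (hE : BlowUp.IsEffCartierIdeal (A ⊔ B))
    (hK : K * (A ⊔ B) = A * B) : K.support = A.support ⊔ B.support := by
  refine le_antisymm ?_ (sup_le
    (Scheme.IdealSheafData.support_antitone (le_left hE hK))
    (Scheme.IdealSheafData.support_antitone (le_right hE hK)))
  rw [← Scheme.IdealSheafData.support_mul, ← hK]
  exact Scheme.IdealSheafData.support_antitone (mul_le_left K _)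

end Groth.Agent.ModPairLib.Divide
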