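import Groth.Agent.LimLib.Model
import Groth.Agent.LimLib.Smooth
import Mathlib.AlgebraicGeometry.Morphisms.UniversallyOpen

/-!
# Descending finite etale coverings along limits
-/

set_option autoImplicit false

universe u

open CategoryTheory CategoryTheory.Limits AlgebraicGeometry TopologicalSpace Groth.Agent.LimLib

namespace Groth.Agent.ModPairLib.LimitEtale

variable {I : Type u} [SmallCategory I] [IsCofiltered I]

/-- An etale qcqs scheme over the limit comes from an etale scheme over a stage. -/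
lemma exists_model (D : I ⥤ Scheme.{u}) (c : Cone D) (hc : IsLimit c)
    [∀ (i j : I) (t : i ⟶ j), IsAffineHom (D.map t)] [∀ i, CompactSpace (D.obj i)]
    [∀ i, QuasiSeparatedSpace (D.obj i)] {X : Scheme.{u}} (f : X ⟶ c.pt) [Etale f] [CompactSpace X]
    [QuasiSeparatedSpace X] :
    ∃ (i : I) (Xi : Scheme.{u}) (fi : Xi ⟶ D.obj i) (g : X ⟶ Xi),
      Etale fi ∧ CompactSpace Xi ∧ QuasiSeparatedSpace Xi ∧ IsPullback g f fi (c.π.app i) := by
  obtain ⟨i, Xi, fi, g, h1, h2, h3, hpb⟩ := hasModel hc f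
  obtain ⟨k, φ, hφ⟩ := descends_etale D c hc inferInstance inferInstance inferInstance i Xi fi h2 h3
    h1 X g f hpb inferInstance
  obtain ⟨-, h2', h3', hpb'⟩ := HasModel.at_finer h1 h2 h3 hpb φ
  exact ⟨k, _, _, _, hφ, h2', h3', hpb'⟩

/-- A finite etale covering of the limit by qcqs schemes descends to some stage. -/
theorem exists_cover (D : I ⥤ Scheme.{u}) (c : Cone D) (hc : IsLimit c)
    [∀ (i j : I) (t : i ⟶ j), IsAffineHom (D.map t)] [∀ i, CompactSpace (D.obj i)]
    [∀ i, QuasiSeparatedSpace (D.obj i)] {α : Type*} [Finite α] (U : α → Scheme.{u})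
    (u : ∀ a, U a ⟶ c.pt) (hu : ∀ a, Etale (u a)) (hUc : ∀ a, CompactSpace (U a))
    (hUs : ∀ a, QuasiSeparatedSpace (U a)) (hcov : ∀ x : c.pt, ∃ a, x ∈ Set.range (u a)) :
    ∃ (i : I) (V : α → Scheme.{u}) (v : ∀ a, V a ⟶ D.obj i) (e : ∀ a, U a ⟶ V a),
      (∀ a, Etale (v a) ∧ CompactSpace (V a) ∧ QuasiSeparatedSpace (V a)) ∧
      (∀ x : D.obj i, ∃ a, x ∈ Set.range (v a)) ∧
      ∀ a, IsPullback (e a) (u a) (v a) (c.π.app i) := by
  classical
  cases nonempty_fintype α
  choose i Xi fi g hfi hXc hXs hpb using fun a =>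
    exists_model D c hc (u a)
  obtain ⟨k, hk⟩ := IsCofiltered.inf_objs_exists (Finset.univ.image i)
  let φ : ∀ a, k ⟶ i a := fun a => (hk (Finset.mem_image_of_mem i (Finset.mem_univ a))).some
  let W : ∀ a, (D.obj k).Opens := fun a =>
    ⟨Set.range (pullback.snd (fi a) (D.map (φ a))), by
      have := hfi a
      exact (pullback.snd (fi a) (D.map (φ a))).isOpenMap.isOpen_range⟩
  have htop : c.π.app k ⁻¹ᵁ (⨆ a, W a) = ⊤ := by
    refine top_unique fun x _ => ?_
    obtain ⟨a, y, hy⟩ := hcov x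
    refine Opens.mem_iSup.2 ⟨a, ?_⟩
    refine ⟨pullback.lift (g a) (u a ≫ c.π.app k) (by simp [(hpb a).w]) y, ?_⟩
    rw [← Scheme.Hom.comp_apply, pullback.lift_snd, Scheme.Hom.comp_apply, hy]
  obtain ⟨j, t, hj⟩ := exists_map_eq_top D c hc _ htop
  refine ⟨j, fun a => pullback (fi a) (D.map (t ≫ φ a)), fun a => pullback.snd _ _,
    fun a => pullback.lift (g a) (u a ≫ c.π.app j) (by simp [(hpb a).w]), fun a => ?_, fun x => ?_,
    fun a => ?_⟩
  · have := hfi a
    obtain ⟨-, h2, h3, -⟩ := HasModel.at_finer inferInstance (hXc a) (hXs a) (hpb a) (t ≫ φ a)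
    exact ⟨inferInstance, h2, h3⟩
  · obtain ⟨a, ha⟩ := Opens.mem_iSup.1 (hj.ge (Set.mem_univ x) : D.map t x ∈ ⨆ a, W a)
    refine ⟨a, ?_⟩
    have h4 : D.map (φ a) (D.map t x) ∈ Set.range (fi a) := by
      obtain ⟨z, hz⟩ := ha
      refine ⟨pullback.fst (fi a) (D.map (φ a)) z, ?_⟩
      rw [← hz, ← Scheme.Hom.comp_apply, pullback.condition, Scheme.Hom.comp_apply]
    rw [Scheme.Pullback.range_snd, Set.mem_preimage, Functor.map_comp, Scheme.Hom.comp_apply]
    exact h4
  · have := hfi a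
    exact (HasModel.at_finer inferInstance (hXc a) (hXs a) (hpb a) (t ≫ φ a)).2.2.2

end Groth.Agent.ModPairLib.LimitEtale
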