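import Groth.Prelude.Def_W4c6modpairsegaMP
import Groth.Agent.IdealSh.Regular
import Mathlib.AlgebraicGeometry.Morphisms.SchemeTheoreticallyDominant
import Mathlib.AlgebraicGeometry.Morphisms.Separated
import Mathlib.AlgebraicGeometry.Morphisms.Affine

/-!
# Modulus pairs: the interior is affine and scheme theoretically dense
-/

set_option autoImplicit false

universe u

open CategoryTheory CategoryTheory.Limits AlgebraicGeometry TopologicalSpace
open Groth.Agent.IdealSh

namespace Groth.Agent.ModPairLib.Dense

variable {X Y Z : Scheme.{u}}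

lemma mem_interior {I : X.IdealSheafData} {x : X} : x ∈ ModPair.interior I ↔ x ∉ I.support :=
  Iff.rfl

lemma interior_comap (f : X ⟶ Y) (J : Y.IdealSheafData) :
    ModPair.interior (J.comap f) = f ⁻¹ᵁ ModPair.interior J := by
  ext x
  rw [SetLike.mem_coe, mem_interior, Scheme.IdealSheafData.support_comap]
  rfl

/-- An ambient morphism maps the interior into the interior. -/
lemma interior_le {I : X.IdealSheafData} {J : Y.IdealSheafData} {f : X ⟶ Y}
    (hf : ModPair.IsAmbient I J f) : ModPair.interior I ≤ f ⁻¹ᵁ ModPair.interior J := by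
  rw [← interior_comap]
  intro x hx hx'
  exact hx (Scheme.IdealSheafData.support_antitone hf hx')

/-- The interior of a locally principal ideal sheaf meets an affine open in an affine open. -/
lemma isAffineHom_interior {I : X.IdealSheafData} (hI : BlowUp.IsEffCartierIdeal I) :
    IsAffineHom (ModPair.interior I).ι := by
  choose U hxU a _ he using hI
  refine isAffineHom_of_forall_exists_isAffineOpen _ fun x => ⟨(U x).1, hxU x, (U x).2, ?_⟩
  rw [← (ModPair.interior I).ι.isAffineOpen_iff_of_isOpenImmersion,
    Scheme.Hom.image_preimage_eq_opensRange_inf, Scheme.Opens.opensRange_ι]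
  have e : ModPair.interior I ⊓ (U x).1 = X.basicOpen (a x) :=
    Opens.ext (by
      rw [Regular.basicOpen_eq_compl_support (he x), Opens.coe_inf, Set.inter_comm]
      rfl)
  rw [e]
  exact (U x).2.basicOpen _

lemma isAffineHom_preimage {J : Y.IdealSheafData} (hJ : BlowUp.IsEffCartierIdeal J) (f : X ⟶ Y) :
    IsAffineHom (f ⁻¹ᵁ ModPair.interior J).ι :=
  MorphismProperty.of_isPullback (isPullback_morphismRestrict f (ModPair.interior J))
    (isAffineHom_interior hJ)

/-- The interior of a modulus pair is scheme theoretically dense. -/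
lemma isSchemeTheoreticallyDominant_interior {I : X.IdealSheafData} (hI : BlowUp.IsEffCartierIdeal I) :
    IsSchemeTheoreticallyDominant (ModPair.interior I).ι := by
  have := isAffineHom_interior hI
  rw [isSchemeTheoreticallyDominant_iff]
  choose U hxU a ha he using hI
  refine Scheme.IdealSheafData.ext_of_iSup_eq_top U
    (top_unique fun x _ => Opens.mem_iSup.2 ⟨x, hxU x⟩) fun x => ?_
  rw [Scheme.Hom.ker_apply, Scheme.IdealSheafData.ideal_bot, Pi.bot_apply, ← le_bot_iff]
  intro s hs
  rw [RingHom.mem_ker, Scheme.Opens.ι_app] at hs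
  refine Regular.eq_zero_of_restrict_basicOpen (U x).2 (ha x) ?_
  have hle : X.basicOpen (a x) ≤ (ModPair.interior I).ι ''ᵁ ((ModPair.interior I).ι ⁻¹ᵁ (U x).1) := by
    rw [Scheme.Hom.image_preimage_eq_opensRange_inf, Scheme.Opens.opensRange_ι]
    intro y hy
    have hy' : y ∈ ((U x).1 : Set X) \ (I.support : Set X) := by
      rw [← Regular.basicOpen_eq_compl_support (he x)]; exact hy
    exact ⟨hy'.2, hy'.1⟩
  have h2 := congrArg (X.presheaf.map (homOfLE hle).op).hom hs
  erw [map_zero] at h2
  erw [← ConcreteCategory.comp_apply, ← Functor.map_comp] at h2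
  exact h2


/-- The pullback of a modulus is effective Cartier when the preimage of the interior is scheme
theoretically dense. -/
lemma isEffCartierIdeal_comap {J : Y.IdealSheafData} (hJ : BlowUp.IsEffCartierIdeal J) (f : X ⟶ Y)
    [IsSchemeTheoreticallyDominant (f ⁻¹ᵁ ModPair.interior J).ι] :
    BlowUp.IsEffCartierIdeal (J.comap f) := by
  have := isAffineHom_preimage hJ f
  refine EffCartier.comap_of_forall f hJ fun U V e a _ he => ?_
  refine mem_nonZeroDivisors_iff_right.2 fun s hs => ?_
  refine (f ⁻¹ᵁ ModPair.interior J).ι.app_injective V.1 ?_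
  rw [map_zero]
  set W := f ⁻¹ᵁ ModPair.interior J
  have hunit : IsUnit ((W.ι.app V.1).hom ((f.appLE U.1 V.1 e).hom a)) := by
    rw [Scheme.Opens.ι_app]
    have hle : W.ι ''ᵁ (W.ι ⁻¹ᵁ V.1) ≤ X.basicOpen ((f.appLE U.1 V.1 e).hom a) := by
      rw [Scheme.Hom.image_preimage_eq_opensRange_inf, Scheme.Opens.opensRange_ι,
        Scheme.basicOpen_appLE]
      rintro y ⟨hy₁, hy₂⟩
      refine ⟨hy₂, ?_⟩
      show f y ∈ (Y.basicOpen a : Set Y)
      rw [Regular.basicOpen_eq_compl_support he]
      exact ⟨e hy₂, hy₁⟩
    have h1 : IsUnit (X.presheaf.map (homOfLE (X.basicOpen_le _)).op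
        ((f.appLE U.1 V.1 e).hom a)) := RingedSpace.isUnit_res_basicOpen _ _
    have h2 := h1.map (X.presheaf.map (homOfLE hle).op).hom
    rw [← RingHom.comp_apply, ← CommRingCat.hom_comp, ← Functor.map_comp] at h2
    exact h2
  refine (hunit.mul_left_eq_zero).1 ?_
  rw [← map_mul, hs, map_zero]

/-- Morphisms to a separated scheme are determined by their restriction to a scheme theoretically
dense open. -/
lemma hom_ext {S : Scheme.{u}} {s : Y ⟶ S} [IsSeparated s] {f g : X ⟶ Y} (h : f ≫ s = g ≫ s)
    {U : Scheme.{u}} (j : U ⟶ X) [IsSchemeTheoreticallyDominant j] (hj : j ≫ f = j ≫ g) :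
    f = g := by
  let t : U ⟶ pullback (pullback.lift f g h) (pullback.diagonal s) :=
    pullback.lift j (j ≫ f) (by
      apply pullback.hom_ext <;>
        simp only [Category.assoc, pullback.lift_fst, pullback.lift_snd, pullback.diagonal_fst,
          pullback.diagonal_snd, Category.comp_id, hj])
  have ht : t ≫ pullback.fst (pullback.lift f g h) (pullback.diagonal s) = j :=
    pullback.lift_fst _ _ _
  have hk : (pullback.fst (pullback.lift f g h) (pullback.diagonal s)).ker = ⊥ := by
    refine le_bot_iff.1 (le_trans (Scheme.Hom.le_ker_comp t _) ?_)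
    rw [ht, j.ker_eq_bot]
  have : IsIso (pullback.fst (pullback.lift f g h) (pullback.diagonal s)) :=
    IsClosedImmersion.isIso_iff_ker_eq_bot.2 hk
  have e := pullback.condition (f := pullback.lift f g h) (g := pullback.diagonal s)
  have e1 := e =≫ pullback.fst s s
  have e2 := e =≫ pullback.snd s s
  simp only [Category.assoc, pullback.lift_fst, pullback.lift_snd, pullback.diagonal_fst,
    pullback.diagonal_snd] at e1 e2
  rw [← cancel_epi (pullback.fst (pullback.lift f g h) (pullback.diagonal s)), e1, e2]

end Groth.Agent.ModPairLib.Dense
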