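import Groth.Agent.ModPairLib.Image
import Groth.Agent.IdealSh.Extend
import Mathlib.AlgebraicGeometry.Limits

/-!
# Disjoint unions of modulus pairs
-/

set_option autoImplicit false

universe w u

open CategoryTheory CategoryTheory.Limits AlgebraicGeometry TopologicalSpace
open Groth.Agent.IdealSh

namespace Groth.Agent.ModPairLib.Coprod

/-- An ideal sheaf is determined by its restrictions to the members of an open cover. -/
lemma eq_of_comap_eq {X : Scheme.{u}} {ι : Type w} {Z : ι → Scheme.{u}} (j : ∀ i, Z i ⟶ X)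
    [∀ i, IsOpenImmersion (j i)] (hcov : ∀ x : X, ∃ i, x ∈ (j i).opensRange)
    {A B : X.IdealSheafData} (h : ∀ i, A.comap (j i) = B.comap (j i)) : A = B := by
  refine Comap.ext_of_forall_exists _ _ fun x => ?_
  obtain ⟨i, hi⟩ := hcov x
  obtain ⟨V, hxV, hle⟩ := Comap.exists_affine_le x (j i).opensRange hi
  refine ⟨V, hxV, Extend.ideal_eq_of_comap_eq ?_ V hle⟩
  rw [← (j i).isoOpensRange_inv_comp, Scheme.IdealSheafData.comap_comp,
    Scheme.IdealSheafData.comap_comp, h]

lemma le_of_comap_le {X : Scheme.{u}} {ι : Type w} {Z : ι → Scheme.{u}} (j : ∀ i, Z i ⟶ X)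
    [∀ i, IsOpenImmersion (j i)] (hcov : ∀ x : X, ∃ i, x ∈ (j i).opensRange)
    {A B : X.IdealSheafData} (h : ∀ i, A.comap (j i) ≤ B.comap (j i)) : A ≤ B := by
  rw [← sup_eq_right]
  refine eq_of_comap_eq j hcov fun i => ?_
  rw [(Scheme.IdealSheafData.map_gc (j i)).l_sup]
  exact sup_eq_right.2 (h i)

section Sigma

variable {σ : Type u} (P : σ → ModPair.Pair.{u})

lemma exists_mem_range (x : (∐ fun i => (P i).total : Scheme.{u})) :
    ∃ i, x ∈ (Sigma.ι (fun i => (P i).total) i).opensRange := by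
  obtain ⟨⟨i, y⟩, rfl⟩ := (sigmaMk fun i => (P i).total).surjective x
  exact ⟨i, y, (sigmaMk_mk (fun i => (P i).total) i y).symm⟩

lemma isClosed_range (i : σ) : IsClosed (Set.range (Sigma.ι (fun i => (P i).total) i)) := by
  rw [← isOpen_compl_iff]
  have e : (Set.range (Sigma.ι (fun i => (P i).total) i))ᶜ =
      ⋃ k ∈ ({k | k ≠ i} : Set σ), Set.range (Sigma.ι (fun i => (P i).total) k) := by
    ext x
    simp only [Set.mem_compl_iff, Set.mem_iUnion, Set.mem_setOf_eq, exists_prop]
    constructor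
    · intro hx
      obtain ⟨k, hk⟩ := exists_mem_range P x
      exact ⟨k, fun h => hx (h ▸ hk), hk⟩
    · rintro ⟨k, hk, y, rfl⟩ ⟨z, hz⟩
      obtain ⟨rfl⟩ := (sigmaι_eq_iff (fun i => (P i).total) i k z y).1 hz
      exact hk rfl
  rw [e]
  exact isOpen_biUnion fun k _ => (Scheme.Hom.isOpenEmbedding _).isOpen_range

lemma isClosedImmersion_ι (i : σ) : IsClosedImmersion (Sigma.ι (fun i => (P i).total) i) :=
  IsClosedImmersion.of_isPreimmersion _ (isClosed_range P i)

/-- The modulus of a disjoint union. -/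
noncomputable def sigmaMod : (∐ fun i => (P i).total : Scheme.{u}).IdealSheafData :=
  ⨅ i, (P i).mod.map (Sigma.ι (fun i => (P i).total) i)

lemma comap_sigmaMod (j : σ) :
    (sigmaMod P).comap (Sigma.ι (fun i => (P i).total) j) = (P j).mod := by
  have := fun i => isClosedImmersion_ι P i
  set ι := fun i => Sigma.ι (fun i => (P i).total) i
  refine le_antisymm (Scheme.IdealSheafData.le_map_iff_comap_le.1 (iInf_le _ j)) ?_
  let C : (∐ fun i => (P i).total : Scheme.{u}).Opens :=
    ⟨(Set.range (ι j))ᶜ, (isClosed_range P j).isOpen_compl⟩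
  have hC : IsClosedImmersion C.ι := IsClosedImmersion.of_isPreimmersion _ (by
    rw [Scheme.Opens.range_ι]
    exact isClosed_compl_iff.2 (ι j).isOpenEmbedding.isOpen_range)
  have hρ : ∀ i, i ≠ j → C.ι.ker ≤ (P i).mod.map (ι i) := fun i hij => by
    have hr : Set.range (ι i) ⊆ Set.range C.ι := by
      rw [Scheme.Opens.range_ι]
      rintro _ ⟨y, rfl⟩ ⟨z, hz⟩
      obtain ⟨rfl⟩ := (sigmaι_eq_iff (fun i => (P i).total) j i z y).1 hz
      exact hij rfl
    refine le_trans ?_ (Scheme.IdealSheafData.map_mono (ι i) bot_le)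
    beta_reduce
    rw [Scheme.IdealSheafData.map_bot, ← IsOpenImmersion.lift_fac C.ι (ι i) hr]
    exact Scheme.Hom.le_ker_comp _ _
  have htop : C.ι.ker.comap (ι j) = ⊤ := by
    refine Comap.comap_eq_top_of_disjoint _ _ ?_
    have hcl : closure (C : Set (∐ fun i => (P i).total : Scheme.{u})) = C :=
      (isClosed_compl_iff.2 (ι j).isOpenEmbedding.isOpen_range).closure_eq
    rw [Scheme.Hom.support_ker, Scheme.Opens.range_ι, hcl]
    exact disjoint_compl_right
  have hJ : (P j).mod.map (ι j) ⊓ C.ι.ker ≤ sigmaMod P := le_iInf fun i => by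
    rcases eq_or_ne i j with rfl | hij
    · exact inf_le_left
    · exact inf_le_right.trans (hρ i hij)
  refine le_trans (le_of_eq ?_) (Scheme.IdealSheafData.comap_mono (ι j) hJ)
  beta_reduce
  rw [Extend.comap_inf, htop, Extend.comap_map, inf_top_eq]

lemma isEffCartierIdeal_sigmaMod : BlowUp.IsEffCartierIdeal (sigmaMod P) := by
  refine EffCartier.of_openCover fun x => ?_
  obtain ⟨i, hi⟩ := exists_mem_range P x
  refine ⟨_, hi,
    (EffCartier.comap_iso_iff (Sigma.ι (fun i => (P i).total) i).isoOpensRange.hom _).1 ?_⟩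
  rw [← Scheme.IdealSheafData.comap_comp, Scheme.Hom.isoOpensRange_hom_ι, comap_sigmaMod]
  exact (P i).isEffCartier

/-- The disjoint union of modulus pairs. -/
noncomputable def sigma : ModPair.Pair.{u} := ⟨_, sigmaMod P, isEffCartierIdeal_sigmaMod P⟩

/-- The inclusions. -/
noncomputable def sigmaι (i : σ) : P i ⟶ sigma P :=
  ⟨Sigma.ι (fun i => (P i).total) i, (comap_sigmaMod P i).ge⟩

lemma cond_desc (c : Cofan P) :
    sigmaMod P ≤ c.pt.mod.comap (Sigma.desc fun i => (c.inj i).hom) :=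
  le_of_comap_le _ (exists_mem_range P) fun i => by
    rw [comap_sigmaMod, ← Scheme.IdealSheafData.comap_comp, Sigma.ι_desc]
    exact (c.inj i).cond

/-- The disjoint union is a coproduct. -/
noncomputable def isColimit : IsColimit (Cofan.mk (sigma P) (sigmaι P)) :=
  mkCofanColimit _
    (fun c => ⟨(Sigma.desc fun i => (c.inj i).hom :
        (∐ fun i => (P i).total : Scheme.{u}) ⟶ c.pt.total), cond_desc P c⟩)
    (fun c i => ModPair.Pair.Hom.ext
      (Sigma.ι_desc (f := fun i => (P i).total) (fun i => (c.inj i).hom) i))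
    (fun c m hm => ModPair.Pair.Hom.ext (Sigma.hom_ext (f := fun i => (P i).total) _ _ fun i =>
      (congrArg ModPair.Pair.Hom.hom (hm i)).trans
        (Sigma.ι_desc (f := fun i => (P i).total) (fun i => (c.inj i).hom) i).symm))

end Sigma

theorem hasColimitsOfShape (σ : Type u) : HasColimitsOfShape (Discrete σ) ModPair.Pair.{u} :=
  ⟨fun F => @hasColimit_of_iso _ _ _ _ _ _ ⟨⟨_, isColimit fun i => F.obj ⟨i⟩⟩⟩
    Discrete.natIsoFunctor⟩

theorem preservesColimitsOfShape (σ : Type u) :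
    PreservesColimitsOfShape (Discrete σ) ModPair.Pair.forget.{u} := by
  refine ⟨fun {F} => ?_⟩
  have : PreservesColimit (Discrete.functor fun i => F.obj ⟨i⟩) ModPair.Pair.forget.{u} :=
    preservesColimit_of_preserves_colimit_cocone (isColimit fun i => F.obj ⟨i⟩)
      ((isColimitMapCoconeCofanMkEquiv ModPair.Pair.forget _ _).symm
        (coproductIsCoproduct fun i => (F.obj ⟨i⟩).total))
  have : PreservesColimit (Discrete.functor (F.obj ∘ Discrete.mk)) ModPair.Pair.forget.{u} := this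
  exact preservesColimit_of_iso_diagram _ Discrete.natIsoFunctor.symm

section Cofan

/-- A property local on the target, checked on a cover with given pullback squares. -/
lemma property_of_cover (R : MorphismProperty Scheme.{u}) [IsZariskiLocalAtTarget R] {A B : Scheme.{u}}
    (a : A ⟶ B) {ι : Type w} {Z W : ι → Scheme.{u}} (j : ∀ i, Z i ⟶ B) [∀ i, IsOpenImmersion (j i)]
    (hcov : ∀ x : B, ∃ i, x ∈ (j i).opensRange) (f : ∀ i, W i ⟶ Z i) (k : ∀ i, W i ⟶ A)
    (hsq : ∀ i, IsPullback (k i) (f i) a (j i)) (h : ∀ i, R (f i)) : R a := by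
  refine IsZariskiLocalAtTarget.of_iSup_eq_top (P := R) (fun i => (j i).opensRange)
    (top_unique fun x _ => Opens.mem_iSup.2 (hcov x)) fun i => ?_
  refine (R.arrow_mk_iso_iff (morphismRestrictOpensRange a (j i))).2 ?_
  rw [← (hsq i).isoPullback_inv_snd, R.cancel_left_of_respectsIso]
  exact h i

/-- Being an isomorphism over an open, checked on a cover with given pullback squares. -/
lemma isIso_restrict_of_cover {A B : Scheme.{u}} (a : A ⟶ B) (U : B.Opens) {ι : Type w}
    {Z W : ι → Scheme.{u}} (j : ∀ i, Z i ⟶ B) [∀ i, IsOpenImmersion (j i)]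
    (hcov : ∀ x : B, ∃ i, x ∈ (j i).opensRange) (f : ∀ i, W i ⟶ Z i) (k : ∀ i, W i ⟶ A)
    (hsq : ∀ i, IsPullback (k i) (f i) a (j i)) (h : ∀ i, IsIso (f i ∣_ j i ⁻¹ᵁ U)) :
    IsIso (a ∣_ U) := by
  have H : ∀ i, ∃ k', IsPullback k' (f i ∣_ j i ⁻¹ᵁ U) (a ∣_ U) (j i ∣_ U) := fun i => by
    have H1 := (isPullback_morphismRestrict (f i) (j i ⁻¹ᵁ U)).flip.paste_horiz (hsq i)
    rw [← morphismRestrict_ι] at H1
    exact ⟨_, IsPullback.of_right' H1 (isPullback_morphismRestrict a U).flip⟩
  choose k' hk' using H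
  refine property_of_cover (MorphismProperty.isomorphisms Scheme.{u}) _ (fun i => j i ∣_ U)
    (fun x => ?_) _ _ hk' h
  obtain ⟨i, y, hy⟩ := hcov (U.ι x)
  let y' : (j i ⁻¹ᵁ U : (Z i).Opens).toScheme := ⟨y, by show j i y ∈ U; rw [hy]; exact x.2⟩
  refine ⟨i, y', U.ι.isEmbedding.injective ?_⟩
  exact (congrArg (fun φ : (j i ⁻¹ᵁ U : (Z i).Opens).toScheme ⟶ B => φ y')
    (morphismRestrict_ι (j i) U)).trans hy

variable {σ : Type u} {P Q : σ → ModPair.Pair.{u}}

theorem admBlowup_aux (f : ∀ i, P i ⟶ Q i) (hf : ∀ i, ModPair.Pair.admBlowup (f i))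
    (α : (∐ fun i => (P i).total : Scheme.{u}) ⟶ ∐ fun i => (Q i).total)
    (hα : ∀ i, Sigma.ι (fun i => (P i).total) i ≫ α =
      (f i).hom ≫ Sigma.ι (fun i => (Q i).total) i) :
    ModPair.IsAdmBlowup (sigmaMod P) (sigmaMod Q) α := by
  have hsq : ∀ i, IsPullback (Sigma.ι (fun i => (P i).total) i) (f i).hom α
      (Sigma.ι (fun i => (Q i).total) i) := fun i => by
    refine (IsOpenImmersion.isPullback (f i).hom (Sigma.ι (fun i => (P i).total) i)
      (Sigma.ι (fun i => (Q i).total) i) α (hα i) ?_).flip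
    refine SetLike.coe_injective (Set.ext fun x => ⟨?_, ?_⟩)
    · rintro ⟨z, hz⟩
      obtain ⟨k, y, rfl⟩ := exists_mem_range P x
      have e : Sigma.ι (fun i => (Q i).total) k ((f k).hom y) =
          Sigma.ι (fun i => (Q i).total) i z := by
        rw [hz, ← Scheme.Hom.comp_apply, ← hα k, Scheme.Hom.comp_apply]
      obtain ⟨rfl⟩ := (sigmaι_eq_iff (fun i => (Q i).total) k i _ z).1 e
      exact ⟨y, rfl⟩
    · rintro ⟨y, rfl⟩
      exact ⟨(f i).hom y, by rw [← Scheme.Hom.comp_apply, ← hα i, Scheme.Hom.comp_apply]⟩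
  refine ⟨?_, ?_, ?_⟩
  · refine eq_of_comap_eq _ (exists_mem_range P) fun i => ?_
    rw [comap_sigmaMod, ← Scheme.IdealSheafData.comap_comp, hα i, Scheme.IdealSheafData.comap_comp,
      comap_sigmaMod]
    exact (hf i).1
  · exact property_of_cover @IsProper α _ (exists_mem_range Q) _ _ hsq fun i => (hf i).2.1
  · refine isIso_restrict_of_cover α _ _ (exists_mem_range Q) _ _ hsq fun i => ?_
    rw [← Dense.interior_comap, comap_sigmaMod]
    exact (hf i).2.2

/-- A morphism of disjoint unions which is componentwise an admissible blow-up is one. -/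
theorem admBlowup_of_components (f : ∀ i, P i ⟶ Q i) (hf : ∀ i, ModPair.Pair.admBlowup (f i))
    (α : sigma P ⟶ sigma Q) (hα : ∀ i, sigmaι P i ≫ α = f i ≫ sigmaι Q i) :
    ModPair.Pair.admBlowup α :=
  admBlowup_aux f hf α.hom fun i => congrArg ModPair.Pair.Hom.hom (hα i)

end Cofan

end Groth.Agent.ModPairLib.Coprod
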