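import Groth.Agent.ModPairLib.Dense
import Groth.Agent.FlatMor.SchDom

/-!
# Scheme-theoretic closures of subschemes of the interior
-/

set_option autoImplicit false

universe u

open CategoryTheory CategoryTheory.Limits AlgebraicGeometry TopologicalSpace
open Groth.Agent.IdealSh

namespace Groth.Agent.ModPairLib.Image

variable {V P X : Scheme.{u}}

/-- The modulus restricted to the closure of a subscheme of the interior is effective Cartier. -/
theorem isEffCartierIdeal_comap_image {I : X.IdealSheafData} (hI : BlowUp.IsEffCartierIdeal I)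
    (h : P ⟶ X) (g : V ⟶ P) [QuasiCompact g]
    (hg : ∀ v : V, h (g v) ∈ ModPair.interior I) :
    BlowUp.IsEffCartierIdeal (I.comap (g.imageι ≫ h)) := by
  set W := (g.imageι ≫ h) ⁻¹ᵁ ModPair.interior I
  have hr : Set.range g.toImage ⊆ (W : Set g.image) := by
    rintro _ ⟨v, rfl⟩
    have e : g.imageι (g.toImage v) = g v := by
      rw [← Scheme.Hom.comp_apply, Scheme.Hom.toImage_imageι]
    show h (g.imageι (g.toImage v)) ∈ ModPair.interior I
    rw [e]
    exact hg v
  have : IsSchemeTheoreticallyDominant W.ι := by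
    rw [isSchemeTheoreticallyDominant_iff, ← le_bot_iff,
      ← (FlatMor.SchDom.toImage_dominant g (Or.inl inferInstance)).ker_eq_bot]
    conv_rhs => rw [← IsOpenImmersion.lift_fac W.ι g.toImage (by rwa [Scheme.Opens.range_ι])]
    exact Scheme.Hom.le_ker_comp _ _
  exact Dense.isEffCartierIdeal_comap hI _

/-- A closed subscheme of an open is the trace on this open of its closure. -/
theorem range_toImage_eq (U : P.Opens) (g' : V ⟶ U) [IsClosedImmersion g'] (g : V ⟶ P)
    [QuasiCompact g] (hgg : g' ≫ U.ι = g) :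
    IsOpenImmersion g.toImage ∧ Set.range g.toImage = g.imageι ⁻¹' (U : Set P) := by
  have : IsImmersion g := by rw [← hgg]; infer_instance
  refine ⟨FlatMor.SchDom.isOpenImmersion_toImage' _ (Or.inl inferInstance), ?_⟩
  have hgv : ∀ v : V, g.imageι (g.toImage v) = U.ι (g' v) := fun v => by
    rw [← Scheme.Hom.comp_apply, Scheme.Hom.toImage_imageι, ← hgg, Scheme.Hom.comp_apply]
  ext z
  constructor
  · rintro ⟨v, rfl⟩
    show g.imageι (g.toImage v) ∈ (U : Set P)
    rw [hgv]
    exact (g' v).2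
  · intro hz
    have hr : Set.range g = U.ι '' Set.range g' := by
      rw [← Set.range_comp, ← hgg]
      rfl
    have hmem : g.imageι z ∈ closure (Set.range g) := by
      rw [← Scheme.Hom.support_ker, ← Scheme.IdealSheafData.range_subschemeι]
      exact ⟨z, rfl⟩
    rw [hr] at hmem
    obtain ⟨w, hw⟩ : ∃ w : (U : Scheme.{u}), U.ι w = g.imageι z := ⟨⟨_, hz⟩, rfl⟩
    have h2 : w ∈ closure (Set.range g') := by
      rw [U.ι.isEmbedding.closure_eq_preimage_closure_image, Set.mem_preimage, hw]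
      exact hmem
    rw [g'.isClosedEmbedding.isClosed_range.closure_eq] at h2
    obtain ⟨v, hv⟩ := h2
    refine ⟨v, g.imageι.isEmbedding.injective ?_⟩
    rw [hgv, hv, hw]

/-- The closure of an open subscheme is an isomorphism over this open. -/
theorem isIso_imageι_restrict (U : P.Opens) [QuasiCompact U.ι] :
    IsIso (U.ι.imageι ∣_ U) := by
  obtain ⟨h1, h2⟩ := range_toImage_eq U (𝟙 (U : Scheme.{u})) U.ι (Category.id_comp _)
  let t : (U : Scheme.{u}) ⟶ (U.ι.imageι ⁻¹ᵁ U : U.ι.image.Opens) :=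
    IsOpenImmersion.lift (U.ι.imageι ⁻¹ᵁ U).ι U.ι.toImage (by
      rw [Scheme.Opens.range_ι, h2]; rfl)
  have ht : t ≫ (U.ι.imageι ⁻¹ᵁ U).ι = U.ι.toImage := IsOpenImmersion.lift_fac _ _ _
  have hto : IsOpenImmersion t := by
    have : IsOpenImmersion (t ≫ (U.ι.imageι ⁻¹ᵁ U).ι) := by rwa [ht]
    exact IsOpenImmersion.of_comp t (U.ι.imageι ⁻¹ᵁ U).ι
  have : Surjective t := ⟨fun z => by
    obtain ⟨v, hv⟩ : (U.ι.imageι ⁻¹ᵁ U).ι z ∈ Set.range U.ι.toImage := by rw [h2]; exact z.2
    refine ⟨v, (U.ι.imageι ⁻¹ᵁ U).ι.isEmbedding.injective ?_⟩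
    rw [← Scheme.Hom.comp_apply, ht]
    exact hv⟩
  have : Epi t.base := ConcreteCategory.epi_of_surjective _ t.surjective
  have : IsIso t := IsOpenImmersion.isIso t
  have e : t ≫ U.ι.imageι ∣_ U = 𝟙 _ := by
    rw [← cancel_mono U.ι, Category.assoc, morphismRestrict_ι, ← Category.assoc, ht,
      Scheme.Hom.toImage_imageι, Category.id_comp]
  rw [← IsIso.inv_hom_id_assoc t (U.ι.imageι ∣_ U), e]
  infer_instance

end Groth.Agent.ModPairLib.Image
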