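import Groth.Agent.ModPairLib.Dense
import Groth.Agent.IdealSh.EffCartier
import Mathlib.AlgebraicGeometry.AffineTransitionLimit

/-!
# Limits of effective Cartier divisors
-/

set_option autoImplicit false

universe u

open CategoryTheory CategoryTheory.Limits AlgebraicGeometry TopologicalSpace
open Groth.Agent.IdealSh

namespace Groth.Agent.ModPairLib.LimitCartier

/-- A global equation of an effective Cartier divisor on an affine open is a nonzerodivisor. -/
lemma mem_nonZeroDivisors_of_equation {X : Scheme.{u}} {𝓘 : X.IdealSheafData}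
    (hI : BlowUp.IsEffCartierIdeal 𝓘) {U : X.affineOpens} {a : Γ(X, U.1)}
    (he : 𝓘.ideal U = Ideal.span {a}) : a ∈ nonZeroDivisors Γ(X, U.1) := by
  have := Dense.isAffineHom_interior hI
  have := Dense.isSchemeTheoreticallyDominant_interior hI
  refine mem_nonZeroDivisors_iff_right.2 fun s hs => ?_
  refine (ModPair.interior 𝓘).ι.app_injective U.1 ?_
  rw [map_zero]
  have hunit : IsUnit (((ModPair.interior 𝓘).ι.app U.1).hom a) := by
    rw [Scheme.Opens.ι_app]
    have hle : (ModPair.interior 𝓘).ι ''ᵁ ((ModPair.interior 𝓘).ι ⁻¹ᵁ U.1) ≤ X.basicOpen a := by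
      rw [Scheme.Hom.image_preimage_eq_opensRange_inf, Scheme.Opens.opensRange_ι]
      rintro y ⟨hy₁, hy₂⟩
      show y ∈ (X.basicOpen a : Set X)
      rw [Regular.basicOpen_eq_compl_support he]
      exact ⟨hy₂, hy₁⟩
    have h1 : IsUnit (X.presheaf.map (homOfLE (X.basicOpen_le _)).op a) :=
      RingedSpace.isUnit_res_basicOpen _ _
    have h2 := h1.map (X.presheaf.map (homOfLE hle).op).hom
    rw [← RingHom.comp_apply, ← CommRingCat.hom_comp, ← Functor.map_comp] at h2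
    exact h2
  refine (hunit.mul_left_eq_zero).1 ?_
  rw [← map_mul, hs, map_zero]

lemma ideal_top_comap {X Y : Scheme.{u}} [IsAffine X] [IsAffine Y] (f : X ⟶ Y)
    (J : Y.IdealSheafData) {a : Γ(Y, ⊤)} (he : J.ideal ⟨⊤, isAffineOpen_top Y⟩ = Ideal.span {a}) :
    (J.comap f).ideal ⟨⊤, isAffineOpen_top X⟩ = Ideal.span {f.appTop.hom a} := by
  rw [Comap.ideal_comap_of_isAffine, he, Ideal.map_span, Set.image_singleton]

variable {I : Type u} [SmallCategory I] [IsCofiltered I]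

/-- The affine case. -/
lemma affine (D : I ⥤ Scheme.{u}) (c : Cone D) (hc : IsLimit c) [∀ i, IsAffine (D.obj i)]
    [IsAffine c.pt] (i : I) (J : (D.obj i).IdealSheafData) (a : Γ(D.obj i, ⊤))
    (he : J.ideal ⟨⊤, isAffineOpen_top _⟩ = Ideal.span {a})
    (hJ : ∀ (j : I) (t : j ⟶ i), BlowUp.IsEffCartierIdeal (J.comap (D.map t)))
    (π : c.pt ⟶ D.obj i) (hπ : π = c.π.app i) :
    BlowUp.IsEffCartierIdeal (J.comap π) := by
  refine fun x => ⟨⟨⊤, isAffineOpen_top _⟩, trivial, π.appTop.hom a, ?_, ideal_top_comap _ _ he⟩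
  refine mem_nonZeroDivisors_iff_right.2 fun s hs => ?_
  subst hπ
  obtain ⟨j, t, rfl⟩ := exists_appTop_π_eq_of_isAffine_of_isLimit D c hc s
  obtain ⟨k, p, q, -⟩ := IsCofilteredOrEmpty.cone_objs i j
  have h1 : ∀ {m l : I} (φ : m ⟶ l) (y : Γ(D.obj l, ⊤)),
      (c.π.app l).appTop.hom y = (c.π.app m).appTop.hom ((D.map φ).appTop.hom y) := fun {m l} φ y => by
    conv_lhs => rw [← c.w φ]
    rw [Scheme.Hom.comp_appTop]
    rfl
  rw [h1 q t, h1 p a] at hs
  erw [← map_mul] at hs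
  obtain ⟨l, r, hl⟩ := exists_appTop_map_eq_zero_of_isAffine_of_isLimit D c hc k _ hs
  have hnzd := mem_nonZeroDivisors_of_equation (hJ l (r ≫ p))
    (ideal_top_comap (D.map (r ≫ p)) J he)
  have e : (D.map (r ≫ p)).appTop.hom a = (D.map r).appTop.hom ((D.map p).appTop.hom a) := by
    rw [Functor.map_comp, Scheme.Hom.comp_appTop]; rfl
  rw [e] at hnzd
  have hl' : (D.map r).appTop.hom ((D.map q).appTop.hom t) *
      (D.map r).appTop.hom ((D.map p).appTop.hom a) = 0 := by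
    rw [← map_mul]; exact hl
  rw [h1 q t, h1 r ((D.map q).appTop.hom t),
    (mem_nonZeroDivisors_iff_right.1 hnzd) _ hl', map_zero]

theorem isEffCartierIdeal_comap_limit (D : I ⥤ Scheme.{u}) (c : Cone D) (hc : IsLimit c)
    [∀ (i j : I) (t : i ⟶ j), IsAffineHom (D.map t)]
    (J : ∀ i, (D.obj i).IdealSheafData) (hJ : ∀ i, BlowUp.IsEffCartierIdeal (J i))
    (hmin : ∀ (i j : I) (t : i ⟶ j), ModPair.IsMinimal (J i) (J j) (D.map t)) (i : I) :
    BlowUp.IsEffCartierIdeal ((J i).comap (c.π.app i)) := by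
  let πi : c.pt ⟶ D.obj i := c.π.app i
  refine EffCartier.of_openCover (X := c.pt) (𝓘 := (J i).comap πi) fun x => ?_
  obtain ⟨U, hxU, a, -, he⟩ := hJ i (πi x)
  refine ⟨πi ⁻¹ᵁ U.1, hxU, ?_⟩
  have hπ : IsAffineHom πi := isAffineHom_π_app D c hc i
  have : ∀ j, IsAffine ((opensDiagram D i U.1).obj j) := fun j => U.2.preimage (D.map _)
  have : IsAffine (opensCone D c i U.1).pt := U.2.preimage πi
  let i₀ : Over i := Over.mk (𝟙 i)
  let ι₀ : (opensDiagram D i U.1).obj i₀ ⟶ D.obj i := (D.map (𝟙 i) ⁻¹ᵁ U.1).ι ≫ D.map (𝟙 i)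
  have hle : (⊤ : ((opensDiagram D i U.1).obj i₀).Opens) ≤ ι₀ ⁻¹ᵁ U.1 := fun z _ => z.2
  have he' : ((J i).comap ι₀).ideal ⟨⊤, isAffineOpen_top _⟩ =
      Ideal.span {(ι₀.appLE U.1 ⊤ hle).hom a} :=
    Comap.ideal_comap_span_singleton (J i) ι₀ U ⟨⊤, isAffineOpen_top _⟩ hle he
  have hnat : ∀ (j : Over i) (t : j ⟶ i₀), (opensDiagram D i U.1).map t ≫ ι₀ =
      (D.map j.hom ⁻¹ᵁ U.1).ι ≫ D.map j.hom := by
    intro j t
    show Scheme.Hom.resLE (D.map t.left) _ _ _ ≫ (D.map (𝟙 i) ⁻¹ᵁ U.1).ι ≫ D.map (𝟙 i) = _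
    rw [Scheme.Hom.resLE_comp_ι_assoc, ← Functor.map_comp]
    congr 2
    exact Over.w t
  let π₀ : (opensCone D c i U.1).pt ⟶ (opensDiagram D i U.1).obj i₀ :=
    (opensCone D c i U.1).π.app i₀
  have h : BlowUp.IsEffCartierIdeal (((J i).comap ι₀).comap π₀) :=
    affine (opensDiagram D i U.1) (opensCone D c i U.1) (isLimitOpensCone D c hc i U.1) i₀
      ((J i).comap ι₀) _ he' (fun j t => by
        have e1 : ((J i).comap (D.map j.hom)).comap (D.map j.hom ⁻¹ᵁ U.1).ι =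
            (((J i).comap ι₀).comap ((opensDiagram D i U.1).map t) :) := by
          refine (Scheme.IdealSheafData.comap_comp _ _ _).symm.trans ?_
          refine Eq.trans ?_ (Scheme.IdealSheafData.comap_comp _ _ _)
          exact congrArg (fun f => (J i).comap f) (hnat j t).symm
        rw [← e1, ← hmin]
        have hfl : Flat (Scheme.Opens.ι (X := D.obj j.left) (D.map j.hom ⁻¹ᵁ U.1)) := inferInstance
        exact @EffCartier.comap_of_flat _ _ _ hfl _ (hJ j.left)) π₀ rfl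
  have e : π₀ ≫ ι₀ = (πi ⁻¹ᵁ U.1).ι ≫ πi := by
    show Scheme.Hom.resLE (c.π.app i) _ _ _ ≫ (D.map (𝟙 i) ⁻¹ᵁ U.1).ι ≫ D.map (𝟙 i) = _
    rw [Scheme.Hom.resLE_comp_ι_assoc]
    congr 1
    exact c.w (𝟙 i)
  have e2 : ((J i).comap ι₀).comap π₀ = (((J i).comap πi).comap (πi ⁻¹ᵁ U.1).ι :) := by
    refine (Scheme.IdealSheafData.comap_comp _ _ _).symm.trans ?_
    refine Eq.trans ?_ (Scheme.IdealSheafData.comap_comp _ _ _)
    exact congrArg (fun f => (J i).comap f) e
  exact e2 ▸ h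

end Groth.Agent.ModPairLib.LimitCartier
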