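import Groth.Agent.LimLib.Immersion
import Groth.Agent.LimLib.FPSystem

/-!
# Systems of closed subschemes which are eventually isomorphic over an open of the base
-/

set_option autoImplicit false

universe u

open CategoryTheory CategoryTheory.Limits AlgebraicGeometry TopologicalSpace Groth.Agent.LimLib

namespace Groth.Agent.ModPairLib.LimitIsoOpen

lemma isClosedImmersion_resLE {X Y : Scheme.{u}} (f : X ⟶ Y) [IsClosedImmersion f] {U : Y.Opens}
    {V : X.Opens} (h : f ⁻¹ᵁ U = V) : IsClosedImmersion (f.resLE U V h.ge) := by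
  subst h
  rw [Scheme.Hom.resLE_eq_morphismRestrict]
  exact MorphismProperty.of_isPullback (P := @IsClosedImmersion)
    (isPullback_morphismRestrict f U).flip inferInstance

lemma lft_resLE {X Y : Scheme.{u}} (f : X ⟶ Y) [LocallyOfFiniteType f] (U : Y.Opens) (V : X.Opens)
    (e : V ≤ f ⁻¹ᵁ U) : LocallyOfFiniteType (f.resLE U V e) := by
  have : LocallyOfFiniteType (f.resLE U V e ≫ U.ι) := by
    rw [Scheme.Hom.resLE_comp_ι]
    infer_instance
  exact locallyOfFiniteType_of_comp _ U.ι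

/-- If the limit is isomorphic to the base over a quasi-compact open, so is some stage. -/
theorem exists_isIso_restrict {I : Type u} [SmallCategory I] [IsCofiltered I] {Y : Scheme.{u}}
    (G : I ⥤ Scheme.{u}) (t : G ⟶ (Functor.const I).obj Y) (c : Cone G) (hc : IsLimit c)
    [∀ (i j : I) (a : i ⟶ j), IsClosedImmersion (G.map a)] [∀ i, QuasiCompact (t.app i)]
    [∀ i, LocallyOfFiniteType (t.app i)] [∀ i, QuasiSeparatedSpace (G.obj i)]
    [QuasiSeparatedSpace Y] (U : Y.Opens) (hU : IsCompact (U : Set Y)) (i₀ : I)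
    (h : IsIso ((c.π.app i₀ ≫ t.app i₀) ∣_ U)) :
    ∃ (i₁ : I) (_ : i₁ ⟶ i₀), ∀ (i : I) (_ : i ⟶ i₁), IsIso (t.app i ∣_ U) := by
  let W : (G.obj i₀).Opens := t.app i₀ ⁻¹ᵁ U
  have e (j : Over i₀) : t.app j.left ⁻¹ᵁ U = G.map j.hom ⁻¹ᵁ W := by
    show _ = G.map j.hom ⁻¹ᵁ (t.app i₀ ⁻¹ᵁ U)
    rw [← Scheme.Hom.comp_preimage, Groth.Agent.LimLib.map_comp_app t]
  let E := opensDiagram G i₀ W
  have htr (j k : Over i₀) (a : j ⟶ k) : IsClosedImmersion (E.map a) :=
    isClosedImmersion_resLE (G.map a.left) (by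
      rw [← Scheme.Hom.comp_preimage, ← G.map_comp, Over.w a])
  have : CompactSpace (U : Scheme.{u}) := isCompact_iff_compactSpace.mp hU
  have : QuasiSeparatedSpace (U : Scheme.{u}) := quasiSeparatedSpace_of_quasiSeparated U.ι
  have (j : Over i₀) : CompactSpace (E.obj j) := by
    refine isCompact_iff_compactSpace.mp ?_
    rw [← e]
    exact QuasiCompact.isCompact_preimage (f := t.app j.left) _ U.2 hU
  have (j : Over i₀) : QuasiSeparatedSpace (E.obj j) :=
    (fun V : (G.obj j.left).Opens => quasiSeparatedSpace_of_quasiSeparated V.ι) (G.map j.hom ⁻¹ᵁ W)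
  let s : E ⟶ (Functor.const (Over i₀)).obj (U : Scheme.{u}) :=
    { app := fun j => (t.app j.left).resLE U _ (e j).ge
      naturality := fun j k a => by
        refine (Scheme.Hom.resLE_comp_resLE ..).trans ?_
        simp [Groth.Agent.LimLib.map_comp_app t] }
  let j₀ : Over i₀ := Over.mk (𝟙 i₀)
  have : LocallyOfFiniteType (s.app j₀) := lft_resLE (t.app i₀) U _ _
  have h' : IsIso ((opensCone G c i₀ W).π.app j₀ ≫ s.app j₀) := by
    have e' : (opensCone G c i₀ W).π.app j₀ ≫ s.app j₀ =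
        (c.π.app i₀ ≫ t.app i₀) ∣_ U := by
      exact (Scheme.Hom.resLE_comp_resLE ..).trans (Scheme.Hom.resLE_eq_morphismRestrict _)
    rw [e']
    exact h
  obtain ⟨j, hj⟩ := eventually_isClosedImmersion (t := s) (isLimitOpensCone G c hc i₀ W) htr j₀
  refine ⟨j.left, j.hom, fun i a => ?_⟩
  have hci : IsClosedImmersion (t.app i ∣_ U) := by
    refine isClosedImmersion_of_resLE _ (e (Over.mk (a ≫ j.hom))) ?_
    exact hj (Over.mk (a ≫ j.hom)) (Over.homMk a rfl)
  have hc0 : c.π.app i ≫ t.app i = c.π.app i₀ ≫ t.app i₀ := π_comp_app_eq' t _ _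
  rw [← hc0, morphismRestrict_comp] at h
  have : IsSplitEpi (t.app i ∣_ U) := by
    exact IsSplitEpi.mk' ⟨@inv _ _ _ _ _ h ≫ (c.π.app i ∣_ (t.app i ⁻¹ᵁ U)),
      by rw [Category.assoc]; exact @IsIso.inv_hom_id _ _ _ _ _ h⟩
  exact isIso_of_mono_of_isSplitEpi _

end Groth.Agent.ModPairLib.LimitIsoOpen
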