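import Groth.Agent.ModPairLib.Image
import Groth.Agent.ModPairLib.LimitCartier
import Groth.Agent.ModPairLib.LimitIsoOpen
import Groth.Agent.LimLib.Immersion
import Groth.Agent.LimLib.Proper
import Groth.Agent.LimLib.Model
import Groth.Agent.LimLib.Props

/-!
# Descending admissible blow-ups along limits
-/

set_option autoImplicit false

universe u

open CategoryTheory CategoryTheory.Limits AlgebraicGeometry TopologicalSpace Groth.Agent.LimLib

namespace Groth.Agent.ModPairLib.LimitBlowup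

/-- The restriction of a pullback square to an open and its preimage. -/
lemma isPullback_restrict {Y' Z X S : Scheme.{u}} {g : Y' ⟶ Z} {f : Y' ⟶ X} {fz : Z ⟶ S}
    {p : X ⟶ S} (h : IsPullback g f fz p) (U : S.Opens) (V : X.Opens) (e : p ⁻¹ᵁ U = V) :
    ∃ q : (f ⁻¹ᵁ V : Scheme.{u}) ⟶ (fz ⁻¹ᵁ U : Scheme.{u}),
      IsPullback q (f ∣_ V) (fz ∣_ U) (p.resLE U V e.ge) := by
  subst e
  rw [Scheme.Hom.resLE_eq_morphismRestrict]
  have hbig := (isPullback_morphismRestrict f (p ⁻¹ᵁ U)).flip.paste_horiz h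
  rw [← morphismRestrict_ι] at hbig
  have hr := (isPullback_morphismRestrict fz U).flip
  refine ⟨g.resLE (fz ⁻¹ᵁ U) (f ⁻¹ᵁ p ⁻¹ᵁ U)
    (by rw [← Scheme.Hom.comp_preimage, ← Scheme.Hom.comp_preimage, h.w]), ?_⟩
  exact IsPullback.of_right (by rwa [Scheme.Hom.resLE_comp_ι])
    (by rw [← cancel_mono U.ι]
        simp only [Category.assoc, morphismRestrict_ι, morphismRestrict_ι_assoc,
          Scheme.Hom.resLE_comp_ι_assoc, h.w]) hr

/-- Being an isomorphism over an open is stable under base change. -/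
lemma isIso_restrict_of_isPullback {Y' Z X S : Scheme.{u}} {g : Y' ⟶ Z} {f : Y' ⟶ X}
    {fz : Z ⟶ S} {p : X ⟶ S} (h : IsPullback g f fz p) (U : S.Opens) (V : X.Opens)
    (e : p ⁻¹ᵁ U = V) (hi : IsIso (fz ∣_ U)) : IsIso (f ∣_ V) := by
  obtain ⟨q, hq⟩ := isPullback_restrict h U V e
  exact MorphismProperty.of_isPullback (P := MorphismProperty.isomorphisms Scheme.{u}) hq hi

/-- A closed subscheme in which the preimage of an open is dense is the closure of that open, when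
both are isomorphic to the open of the base. -/
lemma ker_eq_of_isIso {V Z S : Scheme.{u}} (ι : V ⟶ Z) [IsClosedImmersion ι] (f : Z ⟶ S)
    (U : S.Opens) (hf : IsIso (f ∣_ U)) (hV : IsIso ((ι ≫ f) ∣_ U))
    [IsSchemeTheoreticallyDominant ((ι ≫ f) ⁻¹ᵁ U).ι] : ι.ker = (f ⁻¹ᵁ U).ι.ker := by
  rw [morphismRestrict_comp] at hV
  have hW : IsIso (ι ∣_ (f ⁻¹ᵁ U)) := @IsIso.of_isIso_comp_right _ _ _ _ _ _ (f ∣_ U) hf hV
  calc ι.ker = (((ι ≫ f) ⁻¹ᵁ U).ι ≫ ι).ker := by
        rw [Scheme.Hom.ker_comp ((ι ≫ f) ⁻¹ᵁ U).ι, Scheme.Hom.ker_eq_bot ((ι ≫ f) ⁻¹ᵁ U).ι,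
          Scheme.IdealSheafData.map_bot]
    _ = ((ι ∣_ (f ⁻¹ᵁ U)) ≫ (f ⁻¹ᵁ U).ι).ker :=
        congrArg Scheme.Hom.ker (morphismRestrict_ι ι (f ⁻¹ᵁ U)).symm
    _ = (f ⁻¹ᵁ U).ι.ker := Scheme.Hom.ker_comp_of_isIso _ _

variable {I : Type u} [SmallCategory I] [IsCofiltered I]

/-- An abstract admissible blow-up is a closed subscheme of a proper finitely presented scheme
which is also an isomorphism over the open. -/
lemma exists_fp_envelope {Y X : Scheme.{u}} [CompactSpace X] [QuasiSeparatedSpace X] (s : Y ⟶ X)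
    [IsProper s] (U : X.Opens) (hU : IsCompact (U : Set X)) (h : IsIso (s ∣_ U)) :
    ∃ (Y' : Scheme.{u}) (f' : Y' ⟶ X) (ι : Y ⟶ Y'), LocallyOfFinitePresentation f' ∧
      IsProper f' ∧ IsClosedImmersion ι ∧ IsIso (f' ∣_ U) ∧ ι ≫ f' = s := by
  have : UniversallyClosed s := IsProper.toUniversallyClosed
  have : CompactSpace Y := QuasiCompact.compactSpace_of_compactSpace s
  have : QuasiSeparatedSpace Y := quasiSeparatedSpace_of_quasiSeparated s
  obtain ⟨P, hcl, hclπ⟩ := exists_closedFPSystem s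
  obtain ⟨hl⟩ := P.isLimit_cone
  have : ∀ (i j : P.Jᵒᵖ) (a : i ⟶ j), IsClosedImmersion (P.sch.map a) := fun i j a => hcl a
  have : ∀ i, QuasiSeparatedSpace (P.sch.obj i) := fun i => P.quasiSeparatedSpace i
  have : ∀ i, QuasiCompact (P.str.app i) := fun i => P.quasiCompact i
  obtain ⟨a, ha⟩ := P.eventually_isSeparated
  have : UniversallyClosed (P.cone.π.app a ≫ P.str.app a) := by rw [P.π_str]; assumption
  obtain ⟨b, tb, hb⟩ := exists_universallyClosed_stage_of_isClosedImmersion P.sch P.str P.cone hl a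
  obtain ⟨k, tk, hk⟩ := LimitIsoOpen.exists_isIso_restrict P.sch P.str P.cone hl U hU b
    (by rw [P.π_str]; exact h)
  have hs : IsSeparated (P.str.app k) := ha k (tk ≫ tb)
  have huc : UniversallyClosed (P.str.app k) := by
    rw [← map_comp_app P.str tk]
    infer_instance
  exact ⟨_, P.str.app k, P.cone.π.app k, P.lfp k, { }, hclπ k, hk k (𝟙 k), P.π_str k⟩

/-- A proper finitely presented scheme over the limit, isomorphic over the interior, comes from a
stage. -/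
lemma exists_stage_model (D : I ⥤ Scheme.{u}) (c : Cone D) (hc : IsLimit c)
    [∀ (i j : I) (t : i ⟶ j), IsAffineHom (D.map t)] [∀ i, CompactSpace (D.obj i)]
    [∀ i, QuasiSeparatedSpace (D.obj i)] [CompactSpace c.pt] [QuasiSeparatedSpace c.pt]
    (U : ∀ i, (D.obj i).Opens) (hU : ∀ (i j : I) (t : i ⟶ j), D.map t ⁻¹ᵁ U j = U i)
    (hUc : ∀ i, IsCompact (U i : Set (D.obj i))) (V : c.pt.Opens)
    (hV : ∀ i, c.π.app i ⁻¹ᵁ U i = V)
    {Y' : Scheme.{u}} (f' : Y' ⟶ c.pt) [LocallyOfFinitePresentation f'] [IsProper f']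
    (h : IsIso (f' ∣_ V)) :
    ∃ (i : I) (Z : Scheme.{u}) (fz : Z ⟶ D.obj i) (g : Y' ⟶ Z),
      IsProper fz ∧ IsIso (fz ∣_ U i) ∧ IsPullback g f' fz (c.π.app i) := by
  have : CompactSpace Y' := QuasiCompact.compactSpace_of_compactSpace f'
  have : QuasiSeparatedSpace Y' := quasiSeparatedSpace_of_quasiSeparated f'
  obtain ⟨i, Z, fz, g, h1, h2, h3, hpb⟩ := hasModel hc f'
  obtain ⟨j, φ, hφ⟩ := descends_isProper D c hc inferInstance inferInstance inferInstance i Z fz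
    h2 h3 inferInstance Y' g f' hpb inferInstance
  obtain ⟨h1', h2', h3', hpb'⟩ := HasModel.at_finer h1 h2 h3 hpb φ
  let fzj := pullback.snd fz (D.map φ)
  let U₀ : (D.obj j).Opens := D.map (𝟙 j) ⁻¹ᵁ U j
  have hU₀ : U₀ = U j := hU j j (𝟙 j)
  let E := opensDiagram D j (U j)
  have hEc : ∀ k : Over j, CompactSpace (E.obj k) := fun k =>
    isCompact_iff_compactSpace.mp (by rw [hU]; exact hUc k.left)
  have hEq : ∀ k : Over j, QuasiSeparatedSpace (E.obj k) := fun k =>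
    (fun W : (D.obj k.left).Opens => quasiSeparatedSpace_of_quasiSeparated W.ι)
      (D.map k.hom ⁻¹ᵁ U j)
  have : CompactSpace (fzj ⁻¹ᵁ U₀ : Scheme.{u}) := isCompact_iff_compactSpace.mp
    (QuasiCompact.isCompact_preimage (f := fzj) _ U₀.2 (by rw [hU₀]; exact hUc j))
  have : QuasiSeparatedSpace (fzj ⁻¹ᵁ U₀ : Scheme.{u}) :=
    (fun W : (pullback fz (D.map φ)).Opens => quasiSeparatedSpace_of_quasiSeparated W.ι)
      (fzj ⁻¹ᵁ U₀)
  have e : c.π.app j ⁻¹ᵁ U₀ = c.π.app j ⁻¹ᵁ U j := by rw [hU₀]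
  obtain ⟨q, hq⟩ := isPullback_restrict hpb' U₀ (c.π.app j ⁻¹ᵁ U j) e
  have hiso : IsIso (f' ∣_ (c.π.app j ⁻¹ᵁ U j)) := by rw [hV j]; exact h
  have hlfp : LocallyOfFinitePresentation (fzj ∣_ U₀) :=
    MorphismProperty.of_isPullback (P := @LocallyOfFinitePresentation)
      (isPullback_morphismRestrict fzj U₀).flip h1'
  obtain ⟨k, ψ, hψ⟩ := descends_isIso E (opensCone D c j (U j)) (isLimitOpensCone D c hc j (U j))
    (fun a b t => inferInstance) hEc hEq (Over.mk (𝟙 j)) _ (fzj ∣_ U₀) inferInstance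
    inferInstance hlfp _ q (f' ∣_ (c.π.app j ⁻¹ᵁ U j)) hq hiso
  obtain ⟨h1'', h2'', h3'', hpb''⟩ := HasModel.at_finer h1' h2' h3' hpb' ψ.left
  refine ⟨k.left, _, pullback.snd fzj (D.map ψ.left), _, MorphismProperty.pullback_snd _ _ hφ, ?_,
    hpb''⟩
  have e2 : D.map ψ.left ⁻¹ᵁ U₀ = D.map k.hom ⁻¹ᵁ U j := by
    show D.map ψ.left ⁻¹ᵁ (D.map (𝟙 j) ⁻¹ᵁ U j) = _
    rw [← Scheme.Hom.comp_preimage, ← Functor.map_comp]
    exact congrArg (fun r => D.map r ⁻¹ᵁ U j) (Over.w ψ)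
  obtain ⟨q', hq'⟩ := isPullback_restrict (IsPullback.of_hasPullback fzj (D.map ψ.left)) U₀
    (D.map k.hom ⁻¹ᵁ U j) e2
  have hi : IsIso (pullback.snd fzj (D.map ψ.left) ∣_ (D.map k.hom ⁻¹ᵁ U j)) := by
    have hq'' : IsPullback q' (pullback.snd fzj (D.map ψ.left) ∣_ (D.map k.hom ⁻¹ᵁ U j))
        (fzj ∣_ U₀) (E.map ψ) := hq'
    rw [← hq''.isoPullback_hom_snd]
    exact IsIso.comp_isIso' inferInstance hψ
  rwa [hU] at hi

/-- An abstract admissible blow-up of the limit descends to a stage. -/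
theorem exists_descend (D : I ⥤ Scheme.{u}) (c : Cone D) (hc : IsLimit c)
    [∀ (i j : I) (t : i ⟶ j), IsAffineHom (D.map t)]
    [∀ i, CompactSpace (D.obj i)] [∀ i, QuasiSeparatedSpace (D.obj i)]
    (J : ∀ i, (D.obj i).IdealSheafData) (hJ : ∀ i, BlowUp.IsEffCartierIdeal (J i))
    (hmin : ∀ (i j : I) (t : i ⟶ j), ModPair.IsMinimal (J i) (J j) (D.map t))
    (IX : c.pt.IdealSheafData) (hIX : ∀ i, IX = (J i).comap (c.π.app i))
    {Y : Scheme.{u}} (s : Y ⟶ c.pt) (hY : BlowUp.IsEffCartierIdeal (IX.comap s))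
    (hs : ModPair.IsAdmBlowup (IX.comap s) IX s) :
    ∃ (i : I) (Yi : Scheme.{u}) (IYi : Yi.IdealSheafData) (si : Yi ⟶ D.obj i),
      BlowUp.IsEffCartierIdeal IYi ∧ ModPair.IsAdmBlowup IYi (J i) si ∧
        ∃ e : Y ≅ ModPair.mprod (c.π.app i) si IX IYi,
          e.hom ≫ ModPair.mprodι (c.π.app i) si IX IYi ≫ pullback.fst (c.π.app i) si = s := by
  obtain ⟨-, hsp, hsi⟩ := hs
  obtain ⟨i₀⟩ := IsCofiltered.nonempty (C := I)
  have hπ : ∀ i, IsAffineHom (c.π.app i) := fun i => isAffineHom_π_app D c hc i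
  have : CompactSpace c.pt := Scheme.compactSpace_of_isLimit D c hc
  have : QuasiSeparatedSpace c.pt := by
    let π₀ : c.pt ⟶ D.obj i₀ := c.π.app i₀
    have : IsAffineHom π₀ := hπ i₀
    exact quasiSeparatedSpace_of_quasiSeparated π₀
  let V := ModPair.interior IX
  have hV : ∀ i, c.π.app i ⁻¹ᵁ ModPair.interior (J i) = V := fun i => by
    have e := (Dense.interior_comap (c.π.app i) (J i)).symm
    rwa [← hIX i] at e
  have hU : ∀ (i j : I) (t : i ⟶ j), D.map t ⁻¹ᵁ ModPair.interior (J j) = ModPair.interior (J i) :=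
    fun i j t => by rw [← Dense.interior_comap, ← hmin i j t]
  have hUc : ∀ i, IsCompact (ModPair.interior (J i) : Set (D.obj i)) := fun i => by
    have := Dense.isAffineHom_interior (hJ i)
    exact isCompact_iff_compactSpace.mpr
      (QuasiCompact.compactSpace_of_compactSpace (ModPair.interior (J i)).ι)
  have hVc : IsCompact (V : Set c.pt) := by
    rw [← hV i₀]
    let π₀ : c.pt ⟶ D.obj i₀ := c.π.app i₀
    have : IsAffineHom π₀ := hπ i₀
    exact QuasiCompact.isCompact_preimage (f := π₀) _ (ModPair.interior (J i₀)).2 (hUc i₀)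
  obtain ⟨Y', f', ιY, _, _, _, hf'i, hfac⟩ := exists_fp_envelope s V hVc hsi
  obtain ⟨i, Z, fz, g, hfz, hfzi, hpb⟩ :=
    exists_stage_model D c hc _ hU hUc V hV f' hf'i
  let U := ModPair.interior (J i)
  have : IsAffineHom (fz ⁻¹ᵁ U).ι := Dense.isAffineHom_preimage (hJ i) fz
  let Yi := (fz ⁻¹ᵁ U).ι.image
  let si : Yi ⟶ D.obj i := (fz ⁻¹ᵁ U).ι.imageι ≫ fz
  have hsiU : IsIso (si ∣_ U) := by
    show IsIso (((fz ⁻¹ᵁ U).ι.imageι ≫ fz) ∣_ U)
    rw [morphismRestrict_comp]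
    exact IsIso.comp_isIso' (Image.isIso_imageι_restrict _) hfzi
  have hsiP : IsProper si :=
    MorphismProperty.comp_mem _ _ _ (inferInstanceAs (IsProper (fz ⁻¹ᵁ U).ι.imageι)) hfz
  let IYi := (J i).comap si
  have hIYi : BlowUp.IsEffCartierIdeal IYi :=
    Image.isEffCartierIdeal_comap_image (hJ i) fz (fz ⁻¹ᵁ U).ι fun v => v.2
  refine ⟨i, Yi, IYi, si, hIYi, ⟨rfl, hsiP, hsiU⟩, ?_⟩
  let π : c.pt ⟶ D.obj i := c.π.app i
  have hpb' : IsPullback g f' fz π := hpb
  let jm : pullback π si ⟶ Y' := hpb'.lift (pullback.snd π si ≫ (fz ⁻¹ᵁ U).ι.imageι)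
    (pullback.fst π si) (by rw [Category.assoc]; exact pullback.condition.symm)
  have hjf : jm ≫ f' = pullback.fst π si := hpb'.lift_snd _ _ _
  have hjci : IsClosedImmersion jm := by
    have hp : IsPullback (pullback.snd π si) jm (fz ⁻¹ᵁ U).ι.imageι g := by
      refine IsPullback.of_bot ?_ (hpb'.lift_fst _ _ _).symm hpb'
      rw [hjf]
      exact (IsPullback.of_hasPullback π si).flip
    exact MorphismProperty.of_isPullback (P := @IsClosedImmersion) hp inferInstance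
  have hprod : ModPair.prodInterior π si IX IYi = pullback.fst π si ⁻¹ᵁ V := by
    show _ ⊓ pullback.snd π si ⁻¹ᵁ ModPair.interior ((J i).comap si) = _
    rw [Dense.interior_comap, ← Scheme.Hom.comp_preimage, ← pullback.condition,
      Scheme.Hom.comp_preimage, hV i, inf_idem]
  have hX : BlowUp.IsEffCartierIdeal IX := by
    rw [hIX i]
    exact LimitCartier.isEffCartierIdeal_comap_limit D c hc J hJ hmin i
  have : IsAffineHom (ModPair.prodInterior π si IX IYi).ι := by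
    rw [hprod]
    exact Dense.isAffineHom_preimage hX _
  let t := (ModPair.prodInterior π si IX IYi).ι.imageι
  have htiso : IsIso ((t ≫ pullback.fst π si) ∣_ V) := by
    rw [morphismRestrict_comp]
    refine IsIso.comp_isIso' ?_ (isIso_restrict_of_isPullback (IsPullback.of_hasPullback π si).flip
      U V (hV i) hsiU)
    have h3 : ∀ W, W = ModPair.prodInterior π si IX IYi → IsIso (t ∣_ W) := by
      rintro W rfl
      exact Image.isIso_imageι_restrict _
    exact h3 _ hprod.symm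
  have htd : IsSchemeTheoreticallyDominant ((t ≫ pullback.fst π si) ⁻¹ᵁ V).ι := by
    have hc' : BlowUp.IsEffCartierIdeal (IX.comap (t ≫ pullback.fst π si)) :=
      Image.isEffCartierIdeal_comap_image hX _ _ fun v => v.2.1
    have := Dense.isSchemeTheoreticallyDominant_interior hc'
    rwa [Dense.interior_comap] at this
  let ιm := t ≫ jm
  have hm : ιm.ker = (f' ⁻¹ᵁ V).ι.ker := by
    have e : ιm ≫ f' = t ≫ pullback.fst π si := by rw [Category.assoc, hjf]
    have h1 : IsIso ((ιm ≫ f') ∣_ V) := by rw [e]; exact htiso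
    have h2 : IsSchemeTheoreticallyDominant ((ιm ≫ f') ⁻¹ᵁ V).ι := by rw [e]; exact htd
    exact ker_eq_of_isIso ιm f' V hf'i h1
  have hy : ιY.ker = (f' ⁻¹ᵁ V).ι.ker := by
    have h1 : IsIso ((ιY ≫ f') ∣_ V) := by rw [hfac]; exact hsi
    have h2 : IsSchemeTheoreticallyDominant ((ιY ≫ f') ⁻¹ᵁ V).ι := by
      rw [hfac, ← Dense.interior_comap]
      exact Dense.isSchemeTheoreticallyDominant_interior hY
    exact ker_eq_of_isIso ιY f' V hf'i h1
  have : IsIso (IsClosedImmersion.lift ιm ιY (hm.trans hy.symm).le) :=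
    IsClosedImmersion.isIso_lift ιm ιY (hm.trans hy.symm)
  refine ⟨asIso (IsClosedImmersion.lift ιm ιY (hm.trans hy.symm).le), ?_⟩
  show IsClosedImmersion.lift ιm ιY _ ≫ t ≫ pullback.fst π si = s
  rw [← hjf, ← hfac]
  have e := IsClosedImmersion.lift_fac_assoc ιm ιY (hm.trans hy.symm).le f'
  simpa [ιm] using e

end Groth.Agent.ModPairLib.LimitBlowup
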