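import Groth.Agent.ModPairLib.LimitBlowup
import Groth.Agent.ModPairLib.LimitCartier

/-!
# Closures of interiors as modulus pairs
-/

set_option autoImplicit false

universe u

open CategoryTheory CategoryTheory.Limits AlgebraicGeometry TopologicalSpace

namespace Groth.Agent.ModPairLib.LimitClosure

variable {P Q : Scheme.{u}}

/-- The closure of the preimage of the interior in a scheme over a modulus pair. -/
noncomputable def pair (A : ModPair.Pair.{u}) (p : P ⟶ A.total) : ModPair.Pair.{u} :=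
  ⟨(p ⁻¹ᵁ ModPair.interior A.mod).ι.image,
    A.mod.comap ((p ⁻¹ᵁ ModPair.interior A.mod).ι.imageι ≫ p),
    have := Dense.isAffineHom_preimage A.isEffCartier p
    Image.isEffCartierIdeal_comap_image A.isEffCartier p _ fun v => v.2⟩

/-- The inclusion of a closure. -/
noncomputable def incl (A : ModPair.Pair.{u}) (p : P ⟶ A.total) : (pair A p).total ⟶ P :=
  (p ⁻¹ᵁ ModPair.interior A.mod).ι.imageι

instance (A : ModPair.Pair.{u}) (p : P ⟶ A.total) : IsClosedImmersion (incl A p) :=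
  inferInstanceAs (IsClosedImmersion (p ⁻¹ᵁ ModPair.interior A.mod).ι.imageι)

/-- The map of a closure to the modulus pair. -/
noncomputable def toPair (A : ModPair.Pair.{u}) (p : P ⟶ A.total) : pair A p ⟶ A :=
  ⟨incl A p ≫ p, le_refl _⟩

lemma toPair_hom (A : ModPair.Pair.{u}) (p : P ⟶ A.total) : (toPair A p).hom = incl A p ≫ p := rfl

lemma mod_eq (A : ModPair.Pair.{u}) (p : P ⟶ A.total) :
    (pair A p).mod = A.mod.comap (incl A p ≫ p) := rfl

lemma ker_incl (A : ModPair.Pair.{u}) (p : P ⟶ A.total) :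
    (incl A p).ker = (p ⁻¹ᵁ ModPair.interior A.mod).ι.ker :=
  Scheme.IdealSheafData.ker_subschemeι _

lemma toPair_admBlowup (A : ModPair.Pair.{u}) (p : P ⟶ A.total) [IsProper p]
    (h : IsIso (p ∣_ ModPair.interior A.mod)) : ModPair.Pair.admBlowup (toPair A p) := by
  have := Dense.isAffineHom_preimage A.isEffCartier p
  refine ⟨rfl, ?_, ?_⟩
  · exact inferInstanceAs (IsProper ((p ⁻¹ᵁ ModPair.interior A.mod).ι.imageι ≫ p))
  · show IsIso (((p ⁻¹ᵁ ModPair.interior A.mod).ι.imageι ≫ p) ∣_ ModPair.interior A.mod)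
    rw [morphismRestrict_comp]
    exact IsIso.comp_isIso' (Image.isIso_imageι_restrict _) h

variable {A B C : ModPair.Pair.{u}} {p : P ⟶ A.total} {q : Q ⟶ B.total}

lemma ker_le (a : P ⟶ Q) (g : A.total ⟶ B.total) (hp : a ≫ q = p ≫ g)
    (hg : A.mod = B.mod.comap g) : (incl B q).ker ≤ (incl A p ≫ a).ker := by
  have h : p ⁻¹ᵁ ModPair.interior A.mod ≤ a ⁻¹ᵁ (q ⁻¹ᵁ ModPair.interior B.mod) := by
    rw [← Scheme.Hom.comp_preimage, hp, Scheme.Hom.comp_preimage, ← Dense.interior_comap g, ← hg]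
  rw [ker_incl, Scheme.Hom.ker_comp, ker_incl, Scheme.IdealSheafData.map_ker,
    ← Scheme.Hom.resLE_comp_ι a h]
  exact Scheme.Hom.le_ker_comp _ _

/-- The map of closures over a minimal morphism. -/
noncomputable def map (a : P ⟶ Q) (g : A.total ⟶ B.total) (hp : a ≫ q = p ≫ g)
    (hg : A.mod = B.mod.comap g) : (pair A p).total ⟶ (pair B q).total :=
  IsClosedImmersion.lift (incl B q) (incl A p ≫ a) (ker_le a g hp hg)

lemma map_incl (a : P ⟶ Q) (g : A.total ⟶ B.total) (hp : a ≫ q = p ≫ g)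
    (hg : A.mod = B.mod.comap g) : map a g hp hg ≫ incl B q = incl A p ≫ a :=
  IsClosedImmersion.lift_fac _ _ _

lemma map_toPair (a : P ⟶ Q) (g : A.total ⟶ B.total) (hp : a ≫ q = p ≫ g)
    (hg : A.mod = B.mod.comap g) :
    map a g hp hg ≫ (toPair B q).hom = (toPair A p).hom ≫ g := by
  rw [toPair_hom, toPair_hom, ← Category.assoc, map_incl, Category.assoc, hp, Category.assoc]

lemma map_minimal (a : P ⟶ Q) (g : A.total ⟶ B.total) (hp : a ≫ q = p ≫ g)
    (hg : A.mod = B.mod.comap g) : (pair A p).mod = (pair B q).mod.comap (map a g hp hg) := by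
  show A.mod.comap (toPair A p).hom = (B.mod.comap (toPair B q).hom).comap _
  rw [← Scheme.IdealSheafData.comap_comp, map_toPair, Scheme.IdealSheafData.comap_comp, ← hg]

lemma dominant_comp {X Y Z : Scheme.{u}} (f : X ⟶ Y) (g : Y ⟶ Z)
    (hf : IsSchemeTheoreticallyDominant f) (hg : IsSchemeTheoreticallyDominant g) :
    IsSchemeTheoreticallyDominant (f ≫ g) :=
  MorphismProperty.comp_mem @IsSchemeTheoreticallyDominant f g hf hg

lemma dominant_of_isIso {X Y : Scheme.{u}} (f : X ⟶ Y) (hf : IsIso f) :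
    IsSchemeTheoreticallyDominant f := by
  have := hf
  infer_instance

/-- The morphism of interiors over a dominant morphism is dominant. -/
lemma dominant_interior {X Y : Scheme.{u}} (g : X ⟶ Y) [IsAffineHom g]
    [IsSchemeTheoreticallyDominant g] (a : P ⟶ Q) (p : P ⟶ X) (q : Q ⟶ Y) (hp : a ≫ q = p ≫ g)
    (U : Y.Opens) (V : X.Opens) (hV : g ⁻¹ᵁ U = V) (hq : IsIso (q ∣_ U)) (hpi : IsIso (p ∣_ V))
    (hle : p ⁻¹ᵁ V ≤ a ⁻¹ᵁ (q ⁻¹ᵁ U)) :
    IsSchemeTheoreticallyDominant (a.resLE (q ⁻¹ᵁ U) (p ⁻¹ᵁ V) hle) := by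
  subst hV
  have hD : IsSchemeTheoreticallyDominant (g ∣_ U) :=
    IsSchemeTheoreticallyDominant.of_isPullback (isPullback_morphismRestrict g U).flip
  have e : a.resLE (q ⁻¹ᵁ U) (p ⁻¹ᵁ g ⁻¹ᵁ U) hle =
      (p ∣_ g ⁻¹ᵁ U ≫ g ∣_ U) ≫ inv (q ∣_ U) := by
    rw [IsIso.eq_comp_inv, ← cancel_mono U.ι]
    simp only [Category.assoc, morphismRestrict_ι, morphismRestrict_ι_assoc,
      Scheme.Hom.resLE_comp_ι_assoc, hp]
  rw [e]
  exact dominant_comp _ _ (dominant_comp _ _ (dominant_of_isIso _ hpi) hD)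
    (dominant_of_isIso _ inferInstance)

/-- Closures are functorial in scheme theoretically dominant morphisms. -/
lemma dominant_map (a : P ⟶ Q) (g : A.total ⟶ B.total) (hp : a ≫ q = p ≫ g)
    (hg : A.mod = B.mod.comap g) [IsAffineHom g] [IsSchemeTheoreticallyDominant g]
    (hA : IsIso (p ∣_ ModPair.interior A.mod)) (hB : IsIso (q ∣_ ModPair.interior B.mod)) :
    IsSchemeTheoreticallyDominant (map a g hp hg) := by
  have := Dense.isAffineHom_preimage A.isEffCartier p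
  have := Dense.isAffineHom_preimage B.isEffCartier q
  have hgU : g ⁻¹ᵁ ModPair.interior B.mod = ModPair.interior A.mod := by
    rw [← Dense.interior_comap, ← hg]
  have hle : p ⁻¹ᵁ ModPair.interior A.mod ≤ a ⁻¹ᵁ (q ⁻¹ᵁ ModPair.interior B.mod) := by
    rw [← Scheme.Hom.comp_preimage, hp, Scheme.Hom.comp_preimage, hgU]
  have hr := dominant_interior g a p q hp _ _ hgU hB hA hle
  have hB' : IsSchemeTheoreticallyDominant (q ⁻¹ᵁ ModPair.interior B.mod).ι.toImage :=
    FlatMor.SchDom.toImage_dominant _ (Or.inl inferInstance)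
  let tA : (p ⁻¹ᵁ ModPair.interior A.mod : Scheme.{u}) ⟶ (pair A p).total :=
    (p ⁻¹ᵁ ModPair.interior A.mod).ι.toImage
  have e : tA ≫ map a g hp hg =
      a.resLE _ _ hle ≫ (q ⁻¹ᵁ ModPair.interior B.mod).ι.toImage := by
    refine (cancel_mono (incl B q)).1 ?_
    rw [Category.assoc, map_incl]
    show tA ≫ (p ⁻¹ᵁ ModPair.interior A.mod).ι.imageι ≫ a =
      (_ ≫ (q ⁻¹ᵁ ModPair.interior B.mod).ι.toImage) ≫ (q ⁻¹ᵁ ModPair.interior B.mod).ι.imageι
    rw [Category.assoc, Scheme.Hom.toImage_imageι]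
    exact (Scheme.Hom.toImage_imageι_assoc _ _).trans (Scheme.Hom.resLE_comp_ι _ _).symm
  refine ⟨le_bot_iff.1 ?_⟩
  calc (map a g hp hg).ker ≤ (tA ≫ map a g hp hg).ker := Scheme.Hom.le_ker_comp _ _
    _ = ⊥ := by rw [e]; exact (dominant_comp _ _ hr hB').ker_eq_bot

end Groth.Agent.ModPairLib.LimitClosure
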