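import Mathlib.AlgebraicGeometry.AffineTransitionLimit

/-!
# Descending finite open coverings along limits
-/

set_option autoImplicit false

universe u

open CategoryTheory CategoryTheory.Limits AlgebraicGeometry TopologicalSpace

namespace Groth.Agent.ModPairLib.LimitCover

variable {I : Type u} [SmallCategory I] [IsCofiltered I]

/-- A finite covering of the limit by quasi-compact opens descends to some stage. -/
theorem exists_cover (D : I ⥤ Scheme.{u}) (c : Cone D) (hc : IsLimit c)
    [∀ (i j : I) (t : i ⟶ j), IsAffineHom (D.map t)] [∀ i, CompactSpace (D.obj i)]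
    [∀ i, QuasiSeparatedSpace (D.obj i)]
    {α : Type*} [Finite α] (W : α → c.pt.Opens) (hW : ∀ a, IsCompact (W a : Set c.pt))
    (hcov : ⨆ a, W a = ⊤) :
    ∃ (i : I) (V : α → (D.obj i).Opens), (∀ a, IsCompact (V a : Set (D.obj i))) ∧ (⨆ a, V a = ⊤) ∧
      ∀ a, c.π.app i ⁻¹ᵁ V a = W a := by
  classical
  cases nonempty_fintype α
  choose i V hV hVW using fun a => exists_preimage_eq D c hc (W a) (hW a)
  obtain ⟨k, hk⟩ := IsCofiltered.inf_objs_exists (Finset.univ.image i)
  let f : ∀ a, k ⟶ i a := fun a => (hk (Finset.mem_image_of_mem i (Finset.mem_univ a))).some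
  have hpre : ∀ (a : α) {l : I} (t : l ⟶ k), c.π.app l ⁻¹ᵁ (D.map (t ≫ f a) ⁻¹ᵁ V a) = W a := by
    intro a l t
    rw [← Scheme.Hom.comp_preimage, c.w, hVW]
  have htop : c.π.app k ⁻¹ᵁ (⨆ a, D.map (f a) ⁻¹ᵁ V a) = ⊤ := by
    rw [Scheme.Hom.preimage_iSup, ← hcov]
    exact congrArg iSup (funext fun a => by simpa using hpre a (𝟙 k))
  obtain ⟨j, t, hj⟩ := exists_map_eq_top D c hc _ htop
  refine ⟨j, fun a => D.map (t ≫ f a) ⁻¹ᵁ V a, fun a =>
    (D.map (t ≫ f a)).isCompact_preimage (hV a), ?_, fun a => hpre a t⟩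
  rw [← hj, Scheme.Hom.preimage_iSup]
  exact congrArg iSup (funext fun a => by simp only [← Scheme.Hom.comp_preimage, Functor.map_comp])

end Groth.Agent.ModPairLib.LimitCover
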