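import Groth.Agent.LimLib.Immersion
import Groth.Agent.LimLib.FPSystem
import Mathlib.AlgebraicGeometry.Morphisms.SchemeTheoreticallyDominant

/-!
# Morphisms out of limits with scheme-theoretically dominant transition maps
-/

set_option autoImplicit false

universe u

open CategoryTheory CategoryTheory.Limits AlgebraicGeometry TopologicalSpace

namespace Groth.Agent.ModPairLib.LimitHom

variable {I : Type u} [SmallCategory I] [IsCofiltered I]

/-- The projections from a limit with scheme-theoretically dominant affine transition maps are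
scheme-theoretically dominant. -/
lemma isSchemeTheoreticallyDominant_π (D : I ⥤ Scheme.{u}) (c : Cone D) (hc : IsLimit c)
    [∀ (i j : I) (t : i ⟶ j), IsAffineHom (D.map t)]
    [∀ (i j : I) (t : i ⟶ j), IsSchemeTheoreticallyDominant (D.map t)] (i : I) :
    IsSchemeTheoreticallyDominant (c.π.app i) := by
  have : IsAffineHom (c.π.app i) := isAffineHom_π_app D c hc i
  refine ⟨Scheme.IdealSheafData.ext (funext fun U => ?_)⟩
  rw [Scheme.Hom.ker_apply, Scheme.IdealSheafData.ideal_bot, Pi.bot_apply, eq_bot_iff]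
  intro s hs
  obtain ⟨j, f, hf⟩ := exists_app_map_eq_zero_of_isLimit D c hc U.2.isCompact s hs
  exact (D.map f).app_injective U.1 (hf.trans (map_zero _).symm)

/-- A morphism out of a limit with dominant transition maps to a scheme of finite type descends. -/
theorem exists_factor {S : Scheme.{u}} [QuasiSeparatedSpace S] (D : I ⥤ Over S) (c : Cone D)
    (hc : IsLimit c) [∀ (i j : I) (t : i ⟶ j), IsAffineHom (D.map t).left]
    [∀ (i j : I) (t : i ⟶ j), IsSchemeTheoreticallyDominant (D.map t).left]
    [∀ i, CompactSpace (D.obj i).left] [∀ i, QuasiSeparatedSpace (D.obj i).left]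
    (Y : Over S) [CompactSpace Y.left] [QuasiSeparatedSpace Y.left] [LocallyOfFiniteType Y.hom]
    (φ : c.pt ⟶ Y) : ∃ (i : I) (φi : D.obj i ⟶ Y), c.π.app i ≫ φi = φ := by
  obtain ⟨hl⟩ := Groth.Agent.LimLib.isLimitForget hc
  let G := D ⋙ Over.forget S
  have : ∀ (i j : I) (t : i ⟶ j), IsAffineHom (G.map t) := fun i j t =>
    inferInstanceAs (IsAffineHom (D.map t).left)
  have : ∀ (i j : I) (t : i ⟶ j), IsSchemeTheoreticallyDominant (G.map t) := fun i j t =>
    inferInstanceAs (IsSchemeTheoreticallyDominant (D.map t).left)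
  have : ∀ i, CompactSpace (G.obj i) := fun i => inferInstanceAs (CompactSpace (D.obj i).left)
  have : ∀ i, QuasiSeparatedSpace (G.obj i) := fun i =>
    inferInstanceAs (QuasiSeparatedSpace (D.obj i).left)
  obtain ⟨Y', f', j, _, _, _, _, _, _, hj⟩ :=
    Groth.Agent.LimLib.exists_closedImmersion_fp Y.hom
  let t : G ⟶ (Functor.const I).obj S := { app := fun i => (D.obj i).hom }
  obtain ⟨i, g, hg, hgf⟩ := Scheme.exists_π_app_comp_eq_of_locallyOfFinitePresentation G t f'
    ((Over.forget S).mapCone c) hl (φ.left ≫ j) (by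
      ext i
      show (c.π.app i).left ≫ (D.obj i).hom = (φ.left ≫ j) ≫ f'
      rw [Over.w, Category.assoc, hj, Over.w]
      rfl)
  have := isSchemeTheoreticallyDominant_π G _ hl i
  have hker : j.ker ≤ g.ker := by
    calc j.ker ≤ (φ.left ≫ j).ker := Scheme.Hom.le_ker_comp _ _
      _ = ((((Over.forget S).mapCone c).π.app i) ≫ g).ker := (congrArg Scheme.Hom.ker hg).symm
      _ = g.ker := by
        rw [Scheme.Hom.ker_comp, Scheme.Hom.ker_eq_bot, Scheme.IdealSheafData.map_bot]
  refine ⟨i, Over.homMk (IsClosedImmersion.lift j g hker) ?_, ?_⟩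
  · rw [← hj, IsClosedImmersion.lift_fac_assoc]
    exact hgf
  · ext1
    rw [← cancel_mono j]
    show ((c.π.app i).left ≫ IsClosedImmersion.lift j g hker) ≫ j = φ.left ≫ j
    rw [Category.assoc, IsClosedImmersion.lift_fac]
    exact hg

end Groth.Agent.ModPairLib.LimitHom
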