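import Groth.Agent.LimLib.ClosedApprox
import Groth.Agent.LimLib.Basic

/-!
# Inclusions of ideal sheaves on limits come from a stage
-/

set_option autoImplicit false

universe u

open CategoryTheory CategoryTheory.Limits AlgebraicGeometry TopologicalSpace Groth.Agent.LimLib

namespace Groth.Agent.ModPairLib.LimitIdealLe

lemma comap_le_comap_iff {X Y : Scheme.{u}} (A B : Y.IdealSheafData) (f : X ⟶ Y) :
    A.comap f ≤ B.comap f ↔ A ≤ (pullback.fst B.subschemeι f ≫ B.subschemeι).ker := by
  have e : (pullback.fst f B.subschemeι ≫ f).ker =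
      (pullback.fst B.subschemeι f ≫ B.subschemeι).ker := by
    rw [pullback.condition, ← Scheme.Hom.ker_comp_of_isIso (pullbackSymmetry B.subschemeι f).hom,
      pullbackSymmetry_hom_comp_snd_assoc]
  rw [← e, ← Scheme.IdealSheafData.le_map_iff_comap_le, ← Scheme.IdealSheafData.map_ker]
  rfl

/-- An inclusion of ideals on the limit, the smaller one of finite type, holds at some stage. -/
theorem exists_comap_le {I : Type u} [SmallCategory I] [IsCofiltered I] (D : I ⥤ Scheme.{u})
    (c : Cone D) (hc : IsLimit c) [∀ (i j : I) (t : i ⟶ j), IsAffineHom (D.map t)]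
    [∀ i, CompactSpace (D.obj i)] [∀ i, QuasiSeparatedSpace (D.obj i)] (i : I)
    (A B : (D.obj i).IdealSheafData) (hA : ∀ U, (A.ideal U).FG)
    (h : A.comap (c.π.app i) ≤ B.comap (c.π.app i)) :
    ∃ (j : I) (t : j ⟶ i), A.comap (D.map t) ≤ B.comap (D.map t) := by
  let g₀ := B.subschemeι
  let hY := IsPullback.of_hasPullback g₀ (c.π.app i)
  have : CompactSpace B.subscheme := QuasiCompact.compactSpace_of_compactSpace g₀
  have : QuasiSeparatedSpace B.subscheme := quasiSeparatedSpace_of_quasiSeparated g₀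
  have : LocallyOfFinitePresentation A.subschemeι := (lfp_subschemeι_iff A).mpr hA
  let t : bcDiag D i g₀ ⟶ (Functor.const (Over i)).obj (D.obj i) :=
    { app := fun j => pullback.fst g₀ (D.map j.hom) ≫ g₀
      naturality := fun j k a => by
        show pullback.lift _ _ _ ≫ pullback.fst g₀ (D.map k.hom) ≫ g₀ = _ ≫ 𝟙 _
        rw [pullback.lift_fst_assoc, Category.comp_id] }
  let a : pullback g₀ (c.π.app i) ⟶ A.subscheme :=
    IsClosedImmersion.lift A.subschemeι (pullback.fst g₀ (c.π.app i) ≫ g₀) (by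
      rw [Scheme.IdealSheafData.ker_subschemeι]
      exact (comap_le_comap_iff A B _).1 h)
  obtain ⟨j, g, -, hg⟩ := Scheme.exists_π_app_comp_eq_of_locallyOfFinitePresentation
    (bcDiag D i g₀) t A.subschemeι (bcCone hY) (isLimitBcCone hc hY) a (by
      ext j
      refine (pullback.lift_fst_assoc _ _ _ _).trans ?_
      exact (IsClosedImmersion.lift_fac _ _ _).symm)
  refine ⟨j.left, j.hom, (comap_le_comap_iff A B _).2 ?_⟩
  calc A = A.subschemeι.ker := (Scheme.IdealSheafData.ker_subschemeι A).symm
    _ ≤ (g ≫ A.subschemeι).ker := Scheme.Hom.le_ker_comp _ _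
    _ = (pullback.fst g₀ (D.map j.hom) ≫ g₀).ker := congrArg Scheme.Hom.ker hg

end Groth.Agent.ModPairLib.LimitIdealLe
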