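import Mathlib.CategoryTheory.Localization.CalculusOfFractions
import Mathlib.CategoryTheory.Limits.Shapes.Pullback.IsPullback.Basic

/-!
# Pullback squares in a localization with a right calculus of fractions
-/

set_option autoImplicit false

universe v₁ v₂ u₁ u₂

open CategoryTheory CategoryTheory.Limits

namespace Groth.Agent.ModPairLib.LocPullback

variable {C : Type u₁} [Category.{v₁} C] {D : Type u₂} [Category.{v₂} D] (L : C ⥤ D)
  (W : MorphismProperty C) [L.IsLocalization W] [W.HasRightCalculusOfFractions]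

/-- Two morphisms of the localization between images have a common denominator. -/
lemma exists_common {A B B' : C} (a : L.obj A ⟶ L.obj B) (b : L.obj A ⟶ L.obj B') :
    ∃ (A' : C) (s : A' ⟶ A) (a' : A' ⟶ B) (b' : A' ⟶ B'),
      W s ∧ L.map s ≫ a = L.map a' ∧ L.map s ≫ b = L.map b' := by
  obtain ⟨φ₁, rfl⟩ := Localization.exists_rightFraction L W a
  obtain ⟨φ₂, rfl⟩ := Localization.exists_rightFraction L W b
  obtain ⟨ψ, hψ⟩ := (MorphismProperty.LeftFraction.mk φ₁.s φ₂.s φ₂.hs).exists_rightFraction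
  simp only at hψ
  refine ⟨ψ.X', ψ.s ≫ φ₁.s, ψ.s ≫ φ₁.f, ψ.f ≫ φ₂.f, W.comp_mem _ _ ψ.hs φ₁.hs, ?_, ?_⟩
  · simp only [Functor.map_comp, Category.assoc, MorphismProperty.RightFraction.map_s_comp_map]
  · rw [hψ]
    simp only [Functor.map_comp, Category.assoc, MorphismProperty.RightFraction.map_s_comp_map]

/-- Equality of two images is witnessed by one denominator. -/
lemma exists_eq {A B : C} {a b : A ⟶ B} (h : L.map a = L.map b) :
    ∃ (A' : C) (t : A' ⟶ A), W t ∧ t ≫ a = t ≫ b := by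
  obtain ⟨A', t, ht, he⟩ := (MorphismProperty.map_eq_iff_precomp L W a b).1 h
  exact ⟨A', t, ht, he⟩

/-- A square which is cartesian up to denominators becomes cartesian in the localization. -/
lemma isPullback_map {X T Z P : C} {f : X ⟶ Z} {g : T ⟶ Z} {p : P ⟶ X} {q : P ⟶ T}
    (w : p ≫ f = q ≫ g)
    (h₁ : ∀ (Q : C) (a : Q ⟶ X) (b : Q ⟶ T), a ≫ f = b ≫ g →
      ∃ (Q' : C) (s : Q' ⟶ Q) (c : Q' ⟶ P), W s ∧ c ≫ p = s ≫ a ∧ c ≫ q = s ≫ b)
    (h₂ : ∀ (Q : C) (c₁ c₂ : Q ⟶ P), c₁ ≫ p = c₂ ≫ p → c₁ ≫ q = c₂ ≫ q →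
      ∃ (Q' : C) (s : Q' ⟶ Q), W s ∧ s ≫ c₁ = s ≫ c₂) :
    IsPullback (L.map p) (L.map q) (L.map f) (L.map g) := by
  have hes := Localization.essSurj L W
  have hw : L.map p ≫ L.map f = L.map q ≫ L.map g := by rw [← L.map_comp, w, L.map_comp]
  have hinv : ∀ {A B : C} {s : A ⟶ B}, W s → IsIso (L.map s) := fun hs =>
    Localization.inverts L W _ hs
  have hex : ∀ (Q : C) (a : L.obj Q ⟶ L.obj X) (b : L.obj Q ⟶ L.obj T),
      a ≫ L.map f = b ≫ L.map g → ∃ c : L.obj Q ⟶ L.obj P, c ≫ L.map p = a ∧ c ≫ L.map q = b := by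
    intro Q a b hab
    obtain ⟨Q₁, s, a₁, b₁, hs, ha, hb⟩ := exists_common L W a b
    have e : L.map (a₁ ≫ f) = L.map (b₁ ≫ g) := by
      rw [L.map_comp, L.map_comp, ← ha, ← hb, Category.assoc, Category.assoc, hab]
    obtain ⟨Q₂, t, ht, hteq⟩ := exists_eq L W e
    obtain ⟨Q₃, r, c, hr, hc₁, hc₂⟩ := h₁ Q₂ (t ≫ a₁) (t ≫ b₁) (by
      simpa only [Category.assoc] using hteq)
    have : IsIso (L.map ((r ≫ t) ≫ s)) := hinv (W.comp_mem _ _ (W.comp_mem _ _ hr ht) hs)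
    refine ⟨inv (L.map ((r ≫ t) ≫ s)) ≫ L.map c, ?_, ?_⟩
    · rw [Category.assoc, IsIso.inv_comp_eq, ← L.map_comp, hc₁]
      simp only [L.map_comp, Category.assoc, ha]
    · rw [Category.assoc, IsIso.inv_comp_eq, ← L.map_comp, hc₂]
      simp only [L.map_comp, Category.assoc, hb]
  have huniq : ∀ (Q : C) (c₁ c₂ : L.obj Q ⟶ L.obj P), c₁ ≫ L.map p = c₂ ≫ L.map p →
      c₁ ≫ L.map q = c₂ ≫ L.map q → c₁ = c₂ := by
    intro Q c₁ c₂ hp hq
    obtain ⟨Q₁, s, d₁, d₂, hs, hd₁, hd₂⟩ := exists_common L W c₁ c₂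
    have e₁ : L.map (d₁ ≫ p) = L.map (d₂ ≫ p) := by
      rw [L.map_comp, L.map_comp, ← hd₁, ← hd₂, Category.assoc, Category.assoc, hp]
    obtain ⟨Q₂, t, ht, hteq⟩ := exists_eq L W e₁
    have e₂ : L.map ((t ≫ d₁) ≫ q) = L.map ((t ≫ d₂) ≫ q) := by
      simp only [L.map_comp, Category.assoc, ← hd₁, ← hd₂, hq]
    obtain ⟨Q₃, r, hr, hreq⟩ := exists_eq L W e₂
    obtain ⟨Q₄, k, hk, hkeq⟩ := h₂ Q₃ (r ≫ t ≫ d₁) (r ≫ t ≫ d₂)
      (by simp only [Category.assoc, hteq]) (by simpa only [Category.assoc] using hreq)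
    have : IsIso (L.map (((k ≫ r) ≫ t) ≫ s)) :=
      hinv (W.comp_mem _ _ (W.comp_mem _ _ (W.comp_mem _ _ hk hr) ht) hs)
    rw [← cancel_epi (L.map (((k ≫ r) ≫ t) ≫ s))]
    have := congrArg L.map hkeq
    simp only [L.map_comp, Category.assoc, hd₁, hd₂] at this ⊢
    exact this
  choose lift hlift using fun s : PullbackCone (L.map f) (L.map g) =>
    hex (L.objPreimage s.pt) ((L.objObjPreimageIso s.pt).hom ≫ s.fst)
      ((L.objObjPreimageIso s.pt).hom ≫ s.snd) (by simp only [Category.assoc, s.condition])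
  refine ⟨⟨hw⟩, ⟨PullbackCone.IsLimit.mk hw (fun s => (L.objObjPreimageIso s.pt).inv ≫ lift s)
    (fun s => ?_) (fun s => ?_) (fun s m hm₁ hm₂ => ?_)⟩⟩
  · rw [Category.assoc, (hlift s).1, Iso.inv_hom_id_assoc]
  · rw [Category.assoc, (hlift s).2, Iso.inv_hom_id_assoc]
  · rw [Iso.eq_inv_comp]
    exact huniq _ _ _ (by rw [(hlift s).1, Category.assoc, hm₁])
      (by rw [(hlift s).2, Category.assoc, hm₂])

include W in
/-- The localization has pullbacks as soon as every cospan has a square cartesian up to denominators. -/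
lemma hasPullbacks (h : ∀ (X T Z : C) (f : X ⟶ Z) (g : T ⟶ Z), ∃ (P : C) (p : P ⟶ X) (q : P ⟶ T),
      IsPullback (L.map p) (L.map q) (L.map f) (L.map g)) : HasPullbacks D := by
  have hes := Localization.essSurj L W
  refine @hasPullbacks_of_hasLimit_cospan D _ fun {A B Z a b} => ?_
  let α := L.objObjPreimageIso A
  let β := L.objObjPreimageIso B
  let γ := L.objObjPreimageIso Z
  obtain ⟨φ, hφ⟩ := Localization.exists_rightFraction L W (α.hom ≫ a ≫ γ.inv)
  obtain ⟨ψ, hψ⟩ := Localization.exists_rightFraction L W (β.hom ≫ b ≫ γ.inv)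
  have : IsIso (L.map φ.s) := Localization.inverts L W _ φ.hs
  have : IsIso (L.map ψ.s) := Localization.inverts L W _ ψ.hs
  obtain ⟨P, p, q, hP⟩ := h _ _ _ φ.f ψ.f
  have h' := IsPullback.of_iso hP (Iso.refl _) (asIso (L.map φ.s) ≪≫ α) (asIso (L.map ψ.s) ≪≫ β) γ
    (fst' := L.map p ≫ L.map φ.s ≫ α.hom) (snd' := L.map q ≫ L.map ψ.s ≫ β.hom) (f' := a) (g' := b)
    (by simp) (by simp) (by
      rw [← cancel_mono γ.inv]
      simp only [Category.assoc, Iso.hom_inv_id, Category.comp_id, Iso.trans_hom, asIso_hom, hφ,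
        MorphismProperty.RightFraction.map_s_comp_map]) (by
      rw [← cancel_mono γ.inv]
      simp only [Category.assoc, Iso.hom_inv_id, Category.comp_id, Iso.trans_hom, asIso_hom, hψ,
        MorphismProperty.RightFraction.map_s_comp_map])
  exact h'.hasPullback

end Groth.Agent.ModPairLib.LocPullback
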