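import Groth.Agent.ModPairLib.LimitLocPre
import Groth.Agent.ModPairLib.LocPullback
import Groth.Agent.LimLib.Existence
import Groth.Agent.S18738
import Groth.Agent.S18745

/-!
# Morphisms out of limits in the localization at admissible blow-ups
-/

set_option autoImplicit false
set_option maxHeartbeats 100000

universe u

open CategoryTheory CategoryTheory.Limits AlgebraicGeometry TopologicalSpace

namespace Groth.Agent.ModPairLib.LimitLocalization

open LimitTransform

variable {I : Type u} [SmallCategory I] [IsCofiltered I]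

variable {D : I ⥤ ModPair.Pair.{u}} {c : Cone D}

section main

variable {S : ModPair.Pair.{u}} [CompactSpace S.total] [QuasiSeparatedSpace S.total]
  {Y : Over S} [CompactSpace Y.left.total] [QuasiSeparatedSpace Y.left.total]
  [LocallyOfFiniteType Y.hom.hom]

local notation "L" => MorphismProperty.Q ModPair.Pair.admBlowup

/-- Morphisms from a stage which agree on the limit agree at a later stage. -/
theorem exists_eq (h : IsGood D c) (str : D ⟶ (Functor.const I).obj S) {i : I}
    (φ ψ : (L).obj (D.obj i) ⟶ (L).obj Y.left)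
    (hφ : φ ≫ (L).map Y.hom = (L).map (str.app i)) (hψ : ψ ≫ (L).map Y.hom = (L).map (str.app i))
    (heq : (L).map (c.π.app i) ≫ φ = (L).map (c.π.app i) ≫ ψ) :
    ∃ (j : I) (t : j ⟶ i), (L).map (D.map t) ≫ φ = (L).map (D.map t) ≫ ψ := by
  have := Groth.Agent.S18738.result.{u}
  obtain ⟨A₁, s₁, a₁, b₁, hs₁, ha₁, hb₁⟩ :=
    LocPullback.exists_common (L) ModPair.Pair.admBlowup φ ψ
  obtain ⟨A₂, r₁, hr₁, hre₁⟩ := LocPullback.exists_eq (L) ModPair.Pair.admBlowup
    (a := a₁ ≫ Y.hom) (b := s₁ ≫ str.app i) (by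
      rw [Functor.map_comp, Functor.map_comp, ← ha₁, Category.assoc, hφ])
  obtain ⟨A, r₂, hr₂, hre₂⟩ := LocPullback.exists_eq (L) ModPair.Pair.admBlowup
    (a := (r₁ ≫ b₁) ≫ Y.hom) (b := (r₁ ≫ s₁) ≫ str.app i) (by
      simp only [Functor.map_comp, Category.assoc, ← reassoc_of% hb₁, hψ])
  let s := r₂ ≫ r₁ ≫ s₁
  let a := r₂ ≫ r₁ ≫ a₁
  let b := r₂ ≫ r₁ ≫ b₁
  have hs : ModPair.Pair.admBlowup s :=
    MorphismProperty.comp_mem _ _ _ hr₂ (MorphismProperty.comp_mem _ _ _ hr₁ hs₁)
  have haw : a ≫ Y.hom = s ≫ str.app i := by simp only [a, s, Category.assoc, hre₁]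
  have hbw : b ≫ Y.hom = s ≫ str.app i := by
    simp only [Category.assoc] at hre₂
    simp only [b, s, Category.assoc, hre₂]
  have hsa : (L).map s ≫ φ = (L).map a := by simp only [s, a, Functor.map_comp, Category.assoc, ha₁]
  have hsb : (L).map s ≫ ψ = (L).map b := by simp only [s, b, Functor.map_comp, Category.assoc, hb₁]
  have hG := LimitTransform.isGood h s hs
  let j₀ : Over i := Over.mk (𝟙 i)
  let q := (transCone h s).π.app j₀ ≫ transβ h s hs j₀
  have hqs : q ≫ s = transLimHom h s ≫ c.π.app i := π_transβ h s hs j₀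
  obtain ⟨R, r, hr, hre⟩ := LocPullback.exists_eq (L) ModPair.Pair.admBlowup
    (a := q ≫ a) (b := q ≫ b) (by
      have ea : (L).map (q ≫ a) = (L).map (transLimHom h s) ≫ (L).map (c.π.app i) ≫ φ :=
        ((L).map_comp q a).trans ((congrArg ((L).map q ≫ ·) hsa.symm).trans
          ((Category.assoc _ _ _).symm.trans ((congrArg (· ≫ φ)
            (((L).map_comp q s).symm.trans ((congrArg (L).map hqs).trans
              ((L).map_comp _ _)))).trans (Category.assoc _ _ _))))
      have eb : (L).map (q ≫ b) = (L).map (transLimHom h s) ≫ (L).map (c.π.app i) ≫ ψ :=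
        ((L).map_comp q b).trans ((congrArg ((L).map q ≫ ·) hsb.symm).trans
          ((Category.assoc _ _ _).symm.trans ((congrArg (· ≫ ψ)
            (((L).map_comp q s).symm.trans ((congrArg (L).map hqs).trans
              ((L).map_comp _ _)))).trans (Category.assoc _ _ _))))
      exact ea.trans ((congrArg ((L).map (transLimHom h s) ≫ ·) heq).trans eb.symm))
  obtain ⟨k, B', b', hb', e', he'⟩ := exists_descend hG r hr
  have hG' := LimitTransform.isGood hG b' hb'
  obtain ⟨hl''⟩ := hG'.isLimit
  let G := trans hG b' ⋙ ModPair.Pair.forget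
  have : ∀ (x y : Over k) (z : x ⟶ y), IsAffineHom (G.map z) := fun x y z => hG'.isAffineHom x y z
  have : ∀ x, CompactSpace (G.obj x) := fun x => hG'.compactSpace x
  have : ∀ x, QuasiSeparatedSpace (G.obj x) := fun x => hG'.quasiSeparatedSpace x
  let β : ∀ x : Over k, (trans hG b').obj x ⟶ A := fun x =>
    (transHom hG b').app x ≫ transβ h s hs x.left
  have hβ : ∀ {x y : Over k} (z : x ⟶ y), (trans hG b').map z ≫ β y = β x := fun {x y} z => by
    show _ ≫ (transHom hG b').app y ≫ _ = _
    rw [(transHom hG b').naturality_assoc]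
    exact congrArg ((transHom hG b').app x ≫ ·) (transβ_map h s hs z.left)
  let t : G ⟶ (Functor.const (Over k)).obj S.total :=
    { app := fun x => (β x ≫ s ≫ str.app i).hom
      naturality := fun x y z => by
        show ((trans hG b').map z ≫ β y ≫ s ≫ str.app i).hom = _ ≫ 𝟙 _
        rw [reassoc_of% hβ z, Category.comp_id] }
  let m : Over k := Over.mk (𝟙 k)
  have hq : (transCone hG b').π.app m ≫ β m = transLimHom hG b' ≫ q := by
    show _ ≫ (transHom hG b').app m ≫ transβ h s hs k = _
    let z : k ⟶ j₀ := Over.homMk k.hom (Category.comp_id _)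
    have e2 : (transCone h s).π.app k ≫ transβ h s hs k = q :=
      (congrArg ((transCone h s).π.app k ≫ ·) (transβ_map h s hs z).symm).trans
        ((Category.assoc _ _ _).symm.trans
          (congrArg (· ≫ transβ h s hs j₀) ((transCone h s).w z)))
    exact (Category.assoc _ _ _).symm.trans
      ((congrArg (· ≫ transβ h s hs k) (transCone_π hG b' m)).trans
        ((Category.assoc _ _ _).trans (congrArg (transLimHom hG b' ≫ ·) e2)))
  have hab : (transCone hG b').π.app m ≫ β m ≫ a = (transCone hG b').π.app m ≫ β m ≫ b := by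
    rw [reassoc_of% hq, reassoc_of% hq, ← cancel_epi e'.hom, reassoc_of% he', reassoc_of% he']
    exact hre
  have ha' : (β m ≫ a) ≫ Y.hom = β m ≫ s ≫ str.app i :=
    (Category.assoc _ _ _).trans (congrArg (β m ≫ ·) haw)
  have hb'' : (β m ≫ b) ≫ Y.hom = β m ≫ s ≫ str.app i :=
    (Category.assoc _ _ _).trans (congrArg (β m ≫ ·) hbw)
  obtain ⟨n, z, hz⟩ := Scheme.exists_hom_comp_eq_comp_of_locallyOfFiniteType G t Y.hom.hom
    (ModPair.Pair.forget.mapCone (transCone hG b')) hl'' (i := m) (β m ≫ a).hom (β m ≫ b).hom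
    (congrArg ModPair.Pair.Hom.hom ha'.symm) (congrArg ModPair.Pair.Hom.hom hb''.symm)
    (congrArg ModPair.Pair.Hom.hom hab)
  have hz0 : (trans hG b').map z ≫ β m ≫ a = (trans hG b').map z ≫ β m ≫ b :=
    ModPair.Pair.Hom.ext hz
  have hz' : β n ≫ a = β n ≫ b :=
    (congrArg (· ≫ a) (hβ z).symm).trans ((Category.assoc _ _ _).trans (hz0.trans
      ((Category.assoc _ _ _).symm.trans (congrArg (· ≫ b) (hβ z)))))
  let u₁ : (trans hG b').obj n ⟶ (trans h s).obj n.left := (transHom hG b').app n
  let u₂ : (trans h s).obj n.left ⟶ D.obj n.left.left := (transHom h s).app n.left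
  let ν : (trans hG b').obj n ⟶ D.obj n.left.left := u₁ ≫ u₂
  have hν : ModPair.Pair.admBlowup ν :=
    MorphismProperty.comp_mem _ u₁ u₂ (transHom_admBlowup hG b' hb' n)
      (transHom_admBlowup h s hs n.left)
  have : IsIso ((L).map ν) := Localization.inverts (L) ModPair.Pair.admBlowup _ hν
  refine ⟨n.left.left, n.left.hom, ?_⟩
  have hνs : ν ≫ D.map n.left.hom = β n ≫ s :=
    (Category.assoc _ _ _).trans ((congrArg (u₁ ≫ ·) (transβ_b h s hs n.left).symm).trans
      (Category.assoc _ _ _).symm)
  have ea : (L).map ν ≫ (L).map (D.map n.left.hom) ≫ φ = (L).map (β n ≫ a) :=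
    (Category.assoc _ _ _).symm.trans ((congrArg (· ≫ φ)
      (((L).map_comp _ _).symm.trans ((congrArg (L).map hνs).trans ((L).map_comp _ _)))).trans
      ((Category.assoc _ _ _).trans ((congrArg ((L).map (β n) ≫ ·) hsa).trans
        ((L).map_comp _ _).symm)))
  have eb : (L).map ν ≫ (L).map (D.map n.left.hom) ≫ ψ = (L).map (β n ≫ b) :=
    (Category.assoc _ _ _).symm.trans ((congrArg (· ≫ ψ)
      (((L).map_comp _ _).symm.trans ((congrArg (L).map hνs).trans ((L).map_comp _ _)))).trans
      ((Category.assoc _ _ _).trans ((congrArg ((L).map (β n) ≫ ·) hsb).trans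
        ((L).map_comp _ _).symm)))
  exact (cancel_epi ((L).map ν)).mp (ea.trans ((congrArg (L).map hz').trans eb.symm))

end main

end Groth.Agent.ModPairLib.LimitLocalization
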