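import Groth.Agent.ModPairLib.LimitLocPre
import Groth.Agent.ModPairLib.LocPullback
import Groth.Agent.LimLib.Existence
import Groth.Agent.S18738
import Groth.Agent.S18745

/-!
# Morphisms out of limits in the localization at admissible blow-ups
-/

set_option autoImplicit false
set_option maxHeartbeats 100000

universe u

open CategoryTheory CategoryTheory.Limits AlgebraicGeometry TopologicalSpace

namespace Groth.Agent.ModPairLib.LimitLocalization

open LimitTransform

variable {I : Type u} [SmallCategory I] [IsCofiltered I]

variable {D : I ⥤ ModPair.Pair.{u}} {c : Cone D}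

section main

variable {S : ModPair.Pair.{u}} [CompactSpace S.total] [QuasiSeparatedSpace S.total]
  {Y : Over S} [CompactSpace Y.left.total] [QuasiSeparatedSpace Y.left.total]
  [LocallyOfFiniteType Y.hom.hom]

local notation "L" => MorphismProperty.Q ModPair.Pair.admBlowup

/-- Every morphism out of the limit comes from a stage. -/
theorem exists_lift (h : IsGood D c) (str : D ⟶ (Functor.const I).obj S) (g : c.pt ⟶ S)
    (hg : ∀ i, c.π.app i ≫ str.app i = g)
    (hdom : (∀ (i j : I) (t : i ⟶ j), IsSchemeTheoreticallyDominant (D.map t).hom) ∨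
      LocallyOfFinitePresentation Y.hom.hom)
    (φ : (L).obj c.pt ⟶ (L).obj Y.left) (hφ : φ ≫ (L).map Y.hom = (L).map g) :
    ∃ (i : I) (φi : (L).obj (D.obj i) ⟶ (L).obj Y.left),
      φi ≫ (L).map Y.hom = (L).map (str.app i) ∧ (L).map (c.π.app i) ≫ φi = φ := by
  have := Groth.Agent.S18738.result.{u}
  -- a roof over `S`
  obtain ⟨R₁, s₁, f₁, -, hs₁, hf₁, -⟩ :=
    LocPullback.exists_common (L) ModPair.Pair.admBlowup φ φ
  obtain ⟨R, r, hr, hre⟩ := LocPullback.exists_eq (L) ModPair.Pair.admBlowup
    (a := f₁ ≫ Y.hom) (b := s₁ ≫ g) (by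
      rw [Functor.map_comp, Functor.map_comp, ← hf₁, Category.assoc, hφ])
  let s := r ≫ s₁
  let f := r ≫ f₁
  have hs : ModPair.Pair.admBlowup s := MorphismProperty.comp_mem _ _ _ hr hs₁
  have hw : f ≫ Y.hom = s ≫ g := by simp only [s, f, Category.assoc, hre]
  have hsf : (L).map s ≫ φ = (L).map f := by
    simp only [s, f, Functor.map_comp, Category.assoc, hf₁]
  obtain ⟨i, B, b, hb, e, he⟩ := exists_descend h s hs
  have hG := LimitTransform.isGood h b hb
  obtain ⟨hl'⟩ := hG.isLimit
  let E : Over i ⥤ Over S.total :=
    { obj := fun j => Over.mk ((transHom h b).app j ≫ str.app j.left).hom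
      map := fun {j k} a => Over.homMk ((trans h b).map a).hom (by
        show ((trans h b).map a ≫ (transHom h b).app k ≫ str.app k.left).hom = _
        rw [(transHom h b).naturality_assoc]
        show ((transHom h b).app j ≫ D.map a.left ≫ str.app k.left).hom = _
        rw [str.naturality]
        simp)

      map_id := fun j => by
        ext1
        show ((trans h b).map (𝟙 j)).hom = _
        rw [(trans h b).map_id]
        rfl
      map_comp := fun {j k l} a a' => by
        ext1
        show ((trans h b).map (a ≫ a')).hom = _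
        rw [(trans h b).map_comp]
        rfl }
  have hleg : ∀ j : Over i, (transCone h b).π.app j ≫ (transHom h b).app j ≫ str.app j.left =
      transLimHom h b ≫ g := fun j => by
    exact (Category.assoc _ _ _).symm.trans
      ((congrArg (· ≫ str.app j.left) (transCone_π h b j)).trans
        ((Category.assoc _ _ _).trans (congrArg (transLimHom h b ≫ ·) (hg j.left))))
  let cE : Cone E :=
    { pt := Over.mk (transLimHom h b ≫ g).hom
      π :=
        { app := fun j => Over.homMk ((transCone h b).π.app j).hom
            (congrArg ModPair.Pair.Hom.hom (hleg j))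
          naturality := fun j k a => by
            ext1
            show 𝟙 _ ≫ _ = ((transCone h b).π.app j ≫ (trans h b).map a).hom
            rw [(transCone h b).w, Category.id_comp]
            rfl } }
  have : IsConnected (Over i) := IsCofiltered.isConnected _
  have hlE : IsLimit ((Over.forget S.total).mapCone cE) :=
    IsLimit.ofIsoLimit hl' (Cone.ext (Iso.refl _) fun j => (Category.id_comp _).symm)
  have : ∀ (j k : Over i) (a : j ⟶ k), IsAffineHom (E.map a).left :=
    fun j k a => hG.isAffineHom j k a
  have : ∀ j, CompactSpace (E.obj j).left := fun j => hG.compactSpace j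
  have : ∀ j, QuasiSeparatedSpace (E.obj j).left := fun j => hG.quasiSeparatedSpace j
  have : LocallyOfFiniteType (Over.mk Y.hom.hom).hom := ‹LocallyOfFiniteType Y.hom.hom›
  have : CompactSpace (Over.mk Y.hom.hom).left := ‹CompactSpace Y.left.total›
  have : QuasiSeparatedSpace (Over.mk Y.hom.hom).left := ‹QuasiSeparatedSpace Y.left.total›
  have hf' : (e.inv ≫ f) ≫ Y.hom = transLimHom h b ≫ g := by
    rw [Category.assoc, hw, ← he]
    simp
  obtain ⟨j, φj, hamb, hcomp⟩ := Groth.Agent.S18745.result E cE
    (isLimitOfReflects (Over.forget S.total) hlE) (fun j => ((trans h b).obj j).mod)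
    (fun j => ((trans h b).obj j).isEffCartier) (fun j k a => hG.isMinimal j k a)
    (transCone h b).pt.mod hG.comap_eq (Over.mk Y.hom.hom) Y.left.mod Y.left.isEffCartier
    (hdom.imp_left fun hd j k a => LimitTransform.dominant_map h b hb hd a)
    (Over.homMk (e.inv ≫ f).hom (congrArg ModPair.Pair.Hom.hom hf')) (e.inv ≫ f).cond
  let fj : (trans h b).obj j ⟶ Y.left := ⟨φj.left, hamb⟩
  have hfj : fj ≫ Y.hom = (transHom h b).app j ≫ str.app j.left :=
    ModPair.Pair.Hom.ext (Over.w φj)
  have hπfj : (transCone h b).π.app j ≫ fj = e.inv ≫ f :=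
    ModPair.Pair.Hom.ext (congrArg CommaMorphism.left hcomp)
  let u : (trans h b).obj j ⟶ D.obj j.left := (transHom h b).app j
  let π' : (transCone h b).pt ⟶ (trans h b).obj j := (transCone h b).π.app j
  have : IsIso ((L).map u) :=
    Localization.inverts (L) ModPair.Pair.admBlowup _ (transHom_admBlowup h b hb j)
  have : IsIso ((L).map (transLimHom h b)) :=
    Localization.inverts (L) ModPair.Pair.admBlowup _ (transLimHom_admBlowup h b hb)
  have htl : transLimHom h b = e.inv ≫ s := (Iso.eq_inv_comp e).mpr he
  have e1 : (L).map (transLimHom h b) ≫ φ = (L).map (e.inv ≫ f) := by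
    exact (congrArg (fun t => (L).map t ≫ φ) htl).trans ((congrArg (· ≫ φ) ((L).map_comp _ _)).trans
      ((Category.assoc _ _ _).trans ((congrArg ((L).map e.inv ≫ ·) hsf).trans
        ((L).map_comp _ _).symm)))
  have e3 : (L).map (transLimHom h b) ≫ (L).map (c.π.app j.left) = (L).map π' ≫ (L).map u :=
    ((L).map_comp _ _).symm.trans ((congrArg (L).map (transCone_π h b j).symm).trans
      ((L).map_comp π' u))
  have e4 : (L).map π' ≫ (L).map fj = (L).map (e.inv ≫ f) :=
    ((L).map_comp π' fj).symm.trans (congrArg (L).map hπfj)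
  refine ⟨j.left, inv ((L).map u) ≫ (L).map fj, ?_, ?_⟩
  · exact (Category.assoc _ _ _).trans ((IsIso.inv_comp_eq _).mpr
      (((L).map_comp fj Y.hom).symm.trans ((congrArg (L).map hfj).trans
        ((L).map_comp u (str.app j.left)))))
  · rw [← cancel_epi ((L).map (transLimHom h b)), e1, ← e4, reassoc_of% e3,
      IsIso.hom_inv_id_assoc]

end main

end Groth.Agent.ModPairLib.LimitLocalization
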