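import Groth.Agent.ModPairLib.LimitTransform
import Groth.Agent.ModPairLib.LocPullback
import Groth.Agent.LimLib.Existence
import Groth.Agent.S18738
import Groth.Agent.S18745

/-!
# Morphisms out of limits in the localization at admissible blow-ups
-/

set_option autoImplicit false

universe u

open CategoryTheory CategoryTheory.Limits AlgebraicGeometry TopologicalSpace

namespace Groth.Agent.ModPairLib.LimitLocalization

open LimitTransform

variable {I : Type u} [SmallCategory I] [IsCofiltered I]

/-- A limit of a system over a base is a good limit. -/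
theorem isGood_of_isLimit {S : ModPair.Pair.{u}} (D : I ⥤ Over S) (c : Cone D) (hc : IsLimit c)
    [∀ (i j : I) (t : i ⟶ j), IsAffineHom (D.map t).left.hom]
    (hmin : ∀ (i j : I) (t : i ⟶ j),
      ModPair.IsMinimal (D.obj i).left.mod (D.obj j).left.mod (D.map t).left.hom)
    [∀ i, CompactSpace (D.obj i).left.total] [∀ i, QuasiSeparatedSpace (D.obj i).left.total] :
    IsGood (D ⋙ Over.forget S) ((Over.forget S).mapCone c) := by
  let G := D ⋙ Over.forget S ⋙ ModPair.Pair.forget
  have : ∀ (i j : I) (t : i ⟶ j), IsAffineHom (G.map t) := fun i j t =>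
    inferInstanceAs (IsAffineHom (D.map t).left.hom)
  have : HasLimit G := LimLib.Existence.hasLimit G
  let hl : IsLimit (limit.cone G) := limit.isLimit G
  obtain ⟨i₁⟩ := IsCofiltered.nonempty (C := I)
  let π : ∀ i, limit G ⟶ (D.obj i).left.total := fun i => limit.π G i
  have hπ : ∀ {i j : I} (t : i ⟶ j), π i ≫ (D.map t).left.hom = π j := fun t => limit.w G t
  let J : (limit G).IdealSheafData := (D.obj i₁).left.mod.comap (π i₁)
  have hJ : ∀ i, J = (D.obj i).left.mod.comap (π i) := fun i => by
    obtain ⟨k, a, a', -⟩ := IsCofilteredOrEmpty.cone_objs i₁ i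
    show (D.obj i₁).left.mod.comap (π i₁) = _
    rw [← hπ a, ← hπ a', Scheme.IdealSheafData.comap_comp, Scheme.IdealSheafData.comap_comp,
      ← hmin k i₁ a, ← hmin k i a']
  let X' : ModPair.Pair.{u} := ⟨limit G, J,
    LimitCartier.isEffCartierIdeal_comap_limit G (limit.cone G) hl (fun i => (D.obj i).left.mod)
      (fun i => (D.obj i).left.isEffCartier) (fun i j t => hmin i j t) i₁⟩
  let leg : ∀ i, X' ⟶ (D.obj i).left := fun i => ⟨π i, (hJ i).le⟩
  have hleg : ∀ {i j : I} (t : i ⟶ j), leg i ≫ (D.map t).left = leg j := fun t =>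
    ModPair.Pair.Hom.ext (hπ t)
  have hhom : ∀ i, leg i ≫ (D.obj i).hom = leg i₁ ≫ (D.obj i₁).hom := fun i => by
    obtain ⟨k, a, a', -⟩ := IsCofilteredOrEmpty.cone_objs i₁ i
    rw [← hleg a, ← hleg a', Category.assoc, Category.assoc, Over.w, Over.w]
  let c' : Cone D :=
    { pt := Over.mk (leg i₁ ≫ (D.obj i₁).hom)
      π :=
        { app := fun i => Over.homMk (leg i) (hhom i)
          naturality := fun i j t => by
            ext1
            exact (Category.id_comp _).trans (hleg t).symm } }
  have hc' : IsLimit c' := by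
    refine IsLimit.ofExistsUnique fun T => ?_
    let τ : T.pt.left.total ⟶ limit G :=
      hl.lift ((ModPair.Pair.forget).mapCone ((Over.forget S).mapCone T))
    have hτ : ∀ i, τ ≫ π i = (T.π.app i).left.hom := fun i => hl.fac _ i
    let τP : T.pt.left ⟶ X' := ⟨τ, by
      show T.pt.left.mod ≤ ((D.obj i₁).left.mod.comap (π i₁)).comap τ
      rw [← Scheme.IdealSheafData.comap_comp, hτ]
      exact (T.π.app i₁).left.cond⟩
    have hτP : ∀ i, τP ≫ leg i = (T.π.app i).left := fun i => ModPair.Pair.Hom.ext (hτ i)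
    refine ⟨Over.homMk τP ?_, fun i => Over.OverMorphism.ext (hτP i), fun f hf => ?_⟩
    · show τP ≫ leg i₁ ≫ (D.obj i₁).hom = T.pt.hom
      rw [← Category.assoc, hτP, Over.w]
      rfl
    · refine Over.OverMorphism.ext (ModPair.Pair.Hom.ext (hl.hom_ext fun i => ?_))
      have e : f.left.hom ≫ π i = (T.π.app i).left.hom :=
        congrArg ModPair.Pair.Hom.hom (congrArg Over.Hom.left (hf i))
      exact e.trans (hτ i).symm
  let e := hc.conePointUniqueUpToIso hc'
  have he : ∀ i, e.hom ≫ c'.π.app i = c.π.app i := fun i =>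
    IsLimit.conePointUniqueUpToIso_hom_comp hc hc' i
  let e₀ : c.pt.left ≅ X' := (Over.forget S).mapIso e
  have he₀ : ∀ i, e₀.hom.hom ≫ π i = (c.π.app i).left.hom := fun i =>
    congrArg ModPair.Pair.Hom.hom (congrArg Over.Hom.left (he i))
  refine ⟨fun i j t => inferInstanceAs (IsAffineHom (D.map t).left.hom),
    fun i => inferInstanceAs (CompactSpace (D.obj i).left.total),
    fun i => inferInstanceAs (QuasiSeparatedSpace (D.obj i).left.total), hmin, fun i => ?_, ⟨?_⟩⟩
  · show c.pt.left.mod = (D.obj i).left.mod.comap (c.π.app i).left.hom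
    rw [← he₀, Scheme.IdealSheafData.comap_comp, ← hJ]
    refine le_antisymm e₀.hom.cond ?_
    have h2 : X'.mod.comap e₀.hom.hom ≤ (c.pt.left.mod.comap e₀.inv.hom).comap e₀.hom.hom :=
      Scheme.IdealSheafData.comap_mono e₀.hom.hom e₀.inv.cond
    exact h2.trans (le_of_eq ((Scheme.IdealSheafData.comap_comp _ _ _).symm.trans
      ((congrArg c.pt.left.mod.comap (congrArg ModPair.Pair.Hom.hom e₀.hom_inv_id)).trans
        (Scheme.IdealSheafData.comap_id _))))
  · exact IsLimit.ofIsoLimit hl
      (Cone.ext (ModPair.Pair.forget.mapIso e₀).symm (fun i => by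
        have e1 : e₀.inv.hom ≫ e₀.hom.hom = 𝟙 _ := congrArg ModPair.Pair.Hom.hom e₀.inv_hom_id
        show π i = e₀.inv.hom ≫ (c.π.app i).left.hom
        rw [← he₀, ← Category.assoc, e1, Category.id_comp]))

variable {D : I ⥤ ModPair.Pair.{u}} {c : Cone D}

/-- An admissible blow-up of the limit is a transform. -/
theorem exists_descend (h : IsGood D c) {R : ModPair.Pair.{u}} (s : R ⟶ c.pt)
    (hs : ModPair.Pair.admBlowup s) :
    ∃ (i : I) (B : ModPair.Pair.{u}) (b : B ⟶ D.obj i), ModPair.Pair.admBlowup b ∧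
      ∃ e : R ≅ (transCone h b).pt, e.hom ≫ transLimHom h b = s := by
  obtain ⟨hl⟩ := h.isLimit
  let G := D ⋙ ModPair.Pair.forget
  have : ∀ (j k : I) (a : j ⟶ k), IsAffineHom (G.map a) := fun j k a => h.isAffineHom j k a
  have : ∀ j, CompactSpace (G.obj j) := fun j => h.compactSpace j
  have : ∀ j, QuasiSeparatedSpace (G.obj j) := fun j => h.quasiSeparatedSpace j
  have hRc : BlowUp.IsEffCartierIdeal (c.pt.mod.comap s.hom) := by
    rw [← show R.mod = c.pt.mod.comap s.hom from hs.1]
    exact R.isEffCartier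
  obtain ⟨i, Yi, IYi, si, hIYi, hsi, e, he⟩ := LimitBlowup.exists_descend G
    (ModPair.Pair.forget.mapCone c) hl (fun j => (D.obj j).mod) (fun j => (D.obj j).isEffCartier)
    (fun j k a => h.isMinimal j k a) c.pt.mod h.comap_eq s.hom hRc ⟨rfl, hs.2.1, hs.2.2⟩
  let B : ModPair.Pair.{u} := ⟨Yi, IYi, hIYi⟩
  let b : B ⟶ D.obj i := ⟨si, le_of_eq hsi.1⟩
  refine ⟨i, B, b, hsi, ?_⟩
  let π : c.pt.total ⟶ (D.obj i).total := (c.π.app i).hom
  let v : R.total ⟶ pullback b.hom (c.π.app i).hom :=
    e.hom ≫ ModPair.mprodι π si c.pt.mod IYi ≫ (pullbackSymmetry π si).hom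
  have : IsClosedImmersion (ModPair.mprodι π si c.pt.mod IYi) :=
    inferInstanceAs (IsClosedImmersion (Scheme.Hom.imageι _))
  have h₁ : IsClosedImmersion e.hom := inferInstance
  have h₂ : IsClosedImmersion (ModPair.mprodι π si c.pt.mod IYi ≫ (pullbackSymmetry π si).hom) :=
    inferInstance
  have : IsClosedImmersion v := MorphismProperty.comp_mem @IsClosedImmersion _ _ h₁ h₂
  exact LimitTransform.exists_iso h b hsi s hs v (by
    show (e.hom ≫ _ ≫ (pullbackSymmetry π si).hom) ≫ pullback.snd si π = s.hom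
    rw [Category.assoc, Category.assoc]
    refine Eq.trans ?_ he
    exact congrArg (fun t => e.hom ≫ ModPair.mprodι π si c.pt.mod IYi ≫ t) (pullbackSymmetry_hom_comp_snd π si))

/-- The map of a transform to the blown up stage. -/
noncomputable def transβ (h : IsGood D c) {i : I} {B : ModPair.Pair.{u}} (b : B ⟶ D.obj i)
    (hb : ModPair.Pair.admBlowup b) (j : Over i) : (trans h b).obj j ⟶ B :=
  ⟨LimitClosure.incl (D.obj j.left) (LimitTransform.p b j) ≫ pullback.fst b.hom (D.map j.hom).hom, by
    show (D.obj j.left).mod.comap (LimitClosure.incl _ _ ≫ LimitTransform.p b j) ≤ B.mod.comap _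
    have hc : pullback.fst b.hom (D.map j.hom).hom ≫ b.hom =
        LimitTransform.p b j ≫ (D.map j.hom).hom := pullback.condition
    have e1 : (D.obj j.left).mod.comap (LimitTransform.p b j) =
        B.mod.comap (pullback.fst b.hom (D.map j.hom).hom) :=
      (congrArg (·.comap (LimitTransform.p b j)) (h.isMinimal _ _ j.hom)).trans
        (((Scheme.IdealSheafData.comap_comp _ _ _).symm.trans
          (congrArg (D.obj i).mod.comap hc.symm)).trans
          ((Scheme.IdealSheafData.comap_comp _ _ _).trans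
            (congrArg (·.comap (pullback.fst b.hom (D.map j.hom).hom)) hb.1.symm)))
    exact le_of_eq (((Scheme.IdealSheafData.comap_comp _ _ _).trans
      (congrArg (·.comap (LimitClosure.incl (D.obj j.left) (LimitTransform.p b j))) e1)).trans
      (Scheme.IdealSheafData.comap_comp _ _ _).symm)⟩

omit [IsCofiltered I] in
lemma transβ_map (h : IsGood D c) {i : I} {B : ModPair.Pair.{u}} (b : B ⟶ D.obj i)
    (hb : ModPair.Pair.admBlowup b) {j k : Over i} (a : j ⟶ k) :
    (trans h b).map a ≫ transβ h b hb k = transβ h b hb j := by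
  refine ModPair.Pair.Hom.ext ?_
  show tmap h b a ≫ LimitClosure.incl _ _ ≫ pullback.fst _ _ = LimitClosure.incl _ _ ≫ _
  rw [← Category.assoc, tmap_incl, Category.assoc]
  exact congrArg (LimitClosure.incl _ _ ≫ ·) (pullback.lift_fst _ _ _)

omit [IsCofiltered I] in
lemma transβ_b (h : IsGood D c) {i : I} {B : ModPair.Pair.{u}} (b : B ⟶ D.obj i)
    (hb : ModPair.Pair.admBlowup b) (j : Over i) :
    transβ h b hb j ≫ b = (transHom h b).app j ≫ D.map j.hom := by
  refine ModPair.Pair.Hom.ext ?_
  exact (Category.assoc _ _ _).trans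
    ((congrArg (LimitClosure.incl (D.obj j.left) (LimitTransform.p b j) ≫ ·)
      (pullback.condition (f := b.hom) (g := (D.map j.hom).hom))).trans (Category.assoc _ _ _).symm)

omit [IsCofiltered I] in
lemma π_transβ (h : IsGood D c) {i : I} {B : ModPair.Pair.{u}} (b : B ⟶ D.obj i)
    (hb : ModPair.Pair.admBlowup b) (j : Over i) :
    ((transCone h b).π.app j ≫ transβ h b hb j) ≫ b = transLimHom h b ≫ c.π.app i := by
  exact (Category.assoc _ _ _).trans ((congrArg ((transCone h b).π.app j ≫ ·)
    (transβ_b h b hb j)).trans ((Category.assoc _ _ _).symm.trans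
      ((congrArg (· ≫ D.map j.hom) (transCone_π h b j)).trans
        ((Category.assoc _ _ _).trans (congrArg (transLimHom h b ≫ ·) (c.w j.hom))))))

end Groth.Agent.ModPairLib.LimitLocalization
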