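import Groth.Agent.IdealSh.EffCartier
import Groth.Agent.LimLib.FGIdeal
import Mathlib.AlgebraicGeometry.AffineTransitionLimit

/-!
# Locally principal ideals along limits of closed immersions
-/

set_option autoImplicit false

universe u

open CategoryTheory CategoryTheory.Limits AlgebraicGeometry TopologicalSpace
open Groth.Agent.IdealSh

namespace Groth.Agent.ModPairLib.LimitLocPrin

variable {I : Type u} [SmallCategory I] [IsCofiltered I] (D : I ⥤ Scheme.{u}) (c : Cone D)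
  (hc : IsLimit c) [∀ (i j : I) (t : i ⟶ j), IsAffineHom (D.map t)]

include hc in
/-- Finitely many sections killed in the limit are killed at a common stage. -/
lemma exists_stage_zero {i : I} (V : (D.obj i).affineOpens) (s : Finset Γ(D.obj i, V.1))
    (hs : ∀ x ∈ s, (c.π.app i).app V.1 x = 0) :
    ∃ (j : I) (t : j ⟶ i), ∀ x ∈ s, (D.map t).app V.1 x = 0 := by
  classical
  induction s using Finset.induction_on with
  | empty => exact ⟨i, 𝟙 i, by simp⟩
  | insert a s _ ih =>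
    obtain ⟨j, t, ht⟩ := ih fun x hx => hs x (Finset.mem_insert_of_mem hx)
    obtain ⟨k, r, hr⟩ := exists_app_map_eq_zero_of_isLimit D c hc V.2.isCompact a
      (hs a (Finset.mem_insert_self a s))
    obtain ⟨l, p, q, hpq⟩ := IsCofiltered.cospan t r
    refine ⟨l, p ≫ t, fun x hx => ?_⟩
    obtain rfl | hx := Finset.mem_insert.1 hx
    · rw [hpq, Functor.map_comp, Scheme.Hom.comp_app]
      exact (congrArg ((D.map q).app _) hr).trans (map_zero _)
    · rw [Functor.map_comp, Scheme.Hom.comp_app]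
      exact (congrArg ((D.map p).app _) (ht x hx)).trans (map_zero _)

/-- An ideal principal on an affine open stays so on preimages under affine morphisms. -/
lemma principal_preimage {X Y : Scheme.{u}} {J : Y.IdealSheafData} (f : X ⟶ Y) [IsAffineHom f]
    {V : Y.affineOpens} (h : ∃ b, J.ideal V = Ideal.span {b}) :
    ∃ b, (J.comap f).ideal ⟨f ⁻¹ᵁ V.1, V.2.preimage f⟩ = Ideal.span {b} := by
  obtain ⟨b, hb⟩ := h
  exact ⟨_, Comap.ideal_comap_span_singleton J f V _ le_rfl hb⟩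

lemma principal_comp {X Y Z : Scheme.{u}} {J : Z.IdealSheafData} (f : X ⟶ Y) (g : Y ⟶ Z)
    (ρ : X ⟶ Z) (e : f ≫ g = ρ) [IsAffineHom f] [IsAffineHom g] {V : Z.affineOpens}
    (hρ : IsAffineOpen (ρ ⁻¹ᵁ V.1))
    (h : ∃ b, (J.comap g).ideal ⟨g ⁻¹ᵁ V.1, V.2.preimage g⟩ = Ideal.span {b}) :
    ∃ b, (J.comap ρ).ideal ⟨ρ ⁻¹ᵁ V.1, hρ⟩ = Ideal.span {b} := by
  subst e
  rw [Scheme.IdealSheafData.comap_comp]
  exact principal_preimage f h

include hc in
/-- An ideal of finite type which is principal on the limit, a closed subscheme, is principal at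
some stage. -/
lemma exists_stage_principal {i : I} [IsClosedImmersion (c.π.app i)] (G : (D.obj i).IdealSheafData)
    (hG : ∀ U, (G.ideal U).FG) (V : (D.obj i).affineOpens)
    (h : ∃ a, (G.comap (c.π.app i)).ideal ⟨c.π.app i ⁻¹ᵁ V.1, V.2.preimage _⟩ = Ideal.span {a}) :
    ∃ (j : I) (t : j ⟶ i) (b : Γ(D.obj j, D.map t ⁻¹ᵁ V.1)),
      (G.comap (D.map t)).ideal ⟨D.map t ⁻¹ᵁ V.1, V.2.preimage _⟩ = Ideal.span {b} := by
  classical
  obtain ⟨a, ha⟩ := h
  rw [Comap.ideal_comap_app] at ha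
  obtain ⟨S, hS⟩ := hG V
  let φ := ((c.π.app i).app V.1).hom
  obtain ⟨a', rfl⟩ := (c.π.app i).app_surjective V.1 V.2 a
  have h1 : ∀ g ∈ S, ∃ d, φ (g - d * a') = 0 := by
    intro g hg
    have hmem : φ g ∈ Ideal.span {φ a'} := ha ▸ Ideal.mem_map_of_mem φ (hS ▸ Submodule.subset_span hg)
    obtain ⟨d, hd⟩ := Ideal.mem_span_singleton'.1 hmem
    obtain ⟨d', rfl⟩ := (c.π.app i).app_surjective V.1 V.2 d
    exact ⟨d', by rw [map_sub, map_mul]; exact sub_eq_zero.2 hd.symm⟩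
  choose! d hd using h1
  obtain ⟨a'', ha'', hda⟩ : ∃ a'' ∈ G.ideal V, φ (a' - a'') = 0 := by
    have hmem : φ a' ∈ (G.ideal V).map φ := ha ▸ Ideal.mem_span_singleton_self _
    obtain ⟨y, hy, e⟩ := (Ideal.mem_map_iff_of_surjective φ
      ((c.π.app i).app_surjective V.1 V.2)).1 hmem
    exact ⟨y, hy, by rw [map_sub, e, sub_self]⟩
  obtain ⟨j, t, ht⟩ := exists_stage_zero D c hc V
    (insert (a' - a'') (S.image fun g => g - d g * a')) (by
      intro x hx
      obtain rfl | hx := Finset.mem_insert.1 hx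
      · exact hda
      · obtain ⟨g, hg, rfl⟩ := Finset.mem_image.1 hx
        exact hd g hg)
  refine ⟨j, t, (D.map t).app V.1 a', ?_⟩
  rw [Comap.ideal_comap_app]
  let ψ := ((D.map t).app V.1).hom
  show (G.ideal V).map ψ = Ideal.span {ψ a'}
  refine le_antisymm ?_ ?_
  · rw [← hS, Ideal.map_span, Ideal.span_le]
    rintro _ ⟨g, hg, rfl⟩
    have e : ψ (g - d g * a') = 0 :=
      ht _ (Finset.mem_insert_of_mem (Finset.mem_image_of_mem (fun g => g - d g * a') hg))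
    rw [map_sub, map_mul, sub_eq_zero] at e
    rw [e]
    exact Ideal.mul_mem_left _ _ (Ideal.mem_span_singleton_self _)
  · rw [Ideal.span_le, Set.singleton_subset_iff]
    have e : ψ (a' - a'') = 0 := ht _ (Finset.mem_insert_self _ _)
    rw [map_sub, sub_eq_zero] at e
    rw [e]
    exact Ideal.mem_map_of_mem ψ ha''

include hc in
/-- A locally principal ideal on a limit of closed immersions, coming from an ideal of finite type,
is locally principal at some stage. -/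
theorem exists_stage_locPrincipal [∀ i, CompactSpace (D.obj i)] {i : I}
    [IsClosedImmersion (c.π.app i)] (G : (D.obj i).IdealSheafData) (hG : ∀ U, (G.ideal U).FG)
    (h : ∀ x : c.pt, ∃ U : c.pt.affineOpens, x ∈ U.1 ∧
      ∃ a, (G.comap (c.π.app i)).ideal U = Ideal.span {a}) :
    ∃ (j : I) (t : j ⟶ i), ∀ x : D.obj j, ∃ U : (D.obj j).affineOpens, x ∈ U.1 ∧
      ∃ b, (G.comap (D.map t)).ideal U = Ideal.span {b} := by
  classical
  have h1 : ∀ x : c.pt, ∃ V : (D.obj i).affineOpens, c.π.app i x ∈ V.1 ∧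
      ∃ a, (G.comap (c.π.app i)).ideal ⟨c.π.app i ⁻¹ᵁ V.1, V.2.preimage _⟩ = Ideal.span {a} := by
    intro x
    obtain ⟨U, hxU, a, ha⟩ := h x
    obtain ⟨W, hW, hWU⟩ := (c.π.app i).isClosedEmbedding.isEmbedding.isInducing.isOpen_iff.1 U.1.2
    have hxW : c.π.app i x ∈ W := by rw [← Set.mem_preimage, hWU]; exact hxU
    obtain ⟨V, hxV, hVW⟩ := Comap.exists_affine_le (c.π.app i x) ⟨W, hW⟩ hxW
    refine ⟨V, hxV, _, EffCartier.restrict_eq
      (V := ⟨c.π.app i ⁻¹ᵁ V.1, V.2.preimage _⟩) (fun y hy => ?_) ha⟩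
    show y ∈ U.1.carrier
    rw [← hWU]
    exact hVW hy
  choose V hxV hV using h1
  have : CompactSpace c.pt := Scheme.compactSpace_of_isLimit D c hc
  obtain ⟨s, hs⟩ := isCompact_univ.elim_finite_subcover
    (fun x => ((show c.pt.Opens from c.π.app i ⁻¹ᵁ (V x).1) : Set c.pt)) (fun x => (c.π.app i ⁻¹ᵁ (V x).1).2)
    (fun x _ => Set.mem_iUnion.2 ⟨x, hxV x⟩)
  choose j t b hb using fun x => exists_stage_principal D c hc G hG (V x) (hV x)
  obtain ⟨m, r, hr⟩ := exists_map_eq_top D c hc (⨆ x : s, (V x.1).1) (top_unique fun y _ => by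
    obtain ⟨x, hx, hy⟩ := Set.mem_iUnion₂.1 (hs (Set.mem_univ y))
    exact Opens.mem_iSup.2 ⟨⟨x, hx⟩, hy⟩)
  obtain ⟨k₁, φ₁, ψ₁, hψ₁⟩ := IsCofiltered.wideCospan fun x : s => t x.1
  obtain ⟨k, p, q, hpq⟩ := IsCofiltered.cospan φ₁ r
  refine ⟨k, p ≫ φ₁, fun y => ?_⟩
  have hy : D.map r (D.map q y) ∈ ⨆ x : s, (V x.1).1 :=
    (hr.ge (Set.mem_univ (D.map q y)) :)
  obtain ⟨x, hx⟩ := Opens.mem_iSup.1 hy
  have e1 : D.map q ≫ D.map r = D.map (p ≫ φ₁) := by rw [← Functor.map_comp, hpq]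
  have e2 : D.map (p ≫ ψ₁ x) ≫ D.map (t x.1) = D.map (p ≫ φ₁) := by
    rw [← Functor.map_comp, Category.assoc, hψ₁]
  refine ⟨⟨D.map (p ≫ φ₁) ⁻¹ᵁ (V x.1).1, (V x.1).2.preimage _⟩, ?_, ?_⟩
  · show D.map (p ≫ φ₁) y ∈ (V x.1).1
    rw [← e1, Scheme.Hom.comp_apply]
    exact hx
  · exact principal_comp (D.map (p ≫ ψ₁ x)) (D.map (t x.1)) _ e2 _ ⟨_, hb x.1⟩

end Groth.Agent.ModPairLib.LimitLocPrin
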