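import Groth.Agent.IdealSh.EffCartier
import Groth.Agent.ModPairLib.LimitCartier
import Groth.Agent.LimLib.FGIdeal
import Mathlib.AlgebraicGeometry.AffineTransitionLimit

/-!
# Locally principal ideals along limits with affine transition maps
-/

set_option autoImplicit false

universe u

open CategoryTheory CategoryTheory.Limits AlgebraicGeometry TopologicalSpace
open Groth.Agent.IdealSh

namespace Groth.Agent.ModPairLib.LimitLocPrinAff

variable {I : Type u} [SmallCategory I] [IsCofiltered I] (D : I ⥤ Scheme.{u}) (c : Cone D)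
  (hc : IsLimit c)

omit [IsCofiltered I] in
lemma π_appTop {m l : I} (φ : m ⟶ l) (y : Γ(D.obj l, ⊤)) :
    (c.π.app m).appTop.hom ((D.map φ).appTop.hom y) = (c.π.app l).appTop.hom y := by
  conv_rhs => rw [← c.w φ]
  rw [Scheme.Hom.comp_appTop]
  rfl

omit [IsCofiltered I] in
lemma map_appTop {k j i : I} (a : k ⟶ j) (t : j ⟶ i) (y : Γ(D.obj i, ⊤)) :
    (D.map (a ≫ t)).appTop.hom y = (D.map a).appTop.hom ((D.map t).appTop.hom y) := by
  rw [Functor.map_comp, Scheme.Hom.comp_appTop]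
  rfl

omit [IsCofiltered I] in
lemma ideal_map_appTop {k j i : I} (a : k ⟶ j) (t : j ⟶ i) (K : Ideal Γ(D.obj i, ⊤)) :
    (K.map (D.map t).appTop.hom).map (D.map a).appTop.hom = K.map (D.map (a ≫ t)).appTop.hom := by
  rw [Ideal.map_map]
  congr 1
  ext y
  exact (map_appTop D a t y).symm

include hc in
/-- Membership in an extended ideal descends. -/
lemma exists_stage_mem [∀ i, IsAffine (D.obj i)] {i : I} (K : Ideal Γ(D.obj i, ⊤))
    (x : Γ(D.obj i, ⊤))
    (h : (c.π.app i).appTop.hom x ∈ K.map (c.π.app i).appTop.hom) :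
    ∃ (j : I) (t : j ⟶ i), (D.map t).appTop.hom x ∈ K.map (D.map t).appTop.hom := by
  obtain ⟨j, t, y', hy', he⟩ : ∃ (j : I) (t : j ⟶ i) (y' : Γ(D.obj j, ⊤)),
      y' ∈ K.map (D.map t).appTop.hom ∧
        (c.π.app j).appTop.hom y' = (c.π.app i).appTop.hom x := by
    refine Submodule.span_induction (p := fun y _ => ∃ (j : I) (t : j ⟶ i) (y' : Γ(D.obj j, ⊤)),
      y' ∈ K.map (D.map t).appTop.hom ∧ (c.π.app j).appTop.hom y' = y) ?_ ?_ ?_ ?_ h
    · rintro _ ⟨k, hk, rfl⟩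
      exact ⟨i, 𝟙 i, _, Ideal.mem_map_of_mem _ hk, π_appTop D c (𝟙 i) k⟩
    · exact ⟨i, 𝟙 i, 0, zero_mem _, map_zero _⟩
    · rintro _ _ _ _ ⟨j₁, t₁, y₁, h₁, rfl⟩ ⟨j₂, t₂, y₂, h₂, rfl⟩
      obtain ⟨k, a, b, hab⟩ := IsCofiltered.cospan t₁ t₂
      refine ⟨k, a ≫ t₁, (D.map a).appTop.hom y₁ + (D.map b).appTop.hom y₂, add_mem ?_ ?_, ?_⟩
      · rw [← ideal_map_appTop]
        exact Ideal.mem_map_of_mem _ h₁
      · rw [hab, ← ideal_map_appTop]
        exact Ideal.mem_map_of_mem _ h₂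
      · rw [map_add, π_appTop, π_appTop]
    · rintro r _ _ ⟨j, t, y, hy, rfl⟩
      obtain ⟨j', r', rfl⟩ := exists_appTop_π_eq_of_isAffine_of_isLimit D c hc r
      obtain ⟨k, a, b, -⟩ := IsCofilteredOrEmpty.cone_objs j j'
      refine ⟨k, a ≫ t, (D.map b).appTop.hom r' * (D.map a).appTop.hom y, ?_, ?_⟩
      · refine Ideal.mul_mem_left _ _ ?_
        rw [← ideal_map_appTop]
        exact Ideal.mem_map_of_mem _ hy
      · rw [map_mul, π_appTop, π_appTop]
        rfl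
  obtain ⟨k, a, hk⟩ := exists_appTop_map_eq_zero_of_isAffine_of_isLimit D c hc j
    ((D.map t).appTop.hom x - y') (by
      show (c.π.app j).appTop.hom ((D.map t).appTop.hom x - y') = 0
      rw [map_sub, π_appTop, he, sub_self])
  refine ⟨k, a ≫ t, ?_⟩
  have e : (D.map a).appTop.hom ((D.map t).appTop.hom x) = (D.map a).appTop.hom y' :=
    sub_eq_zero.1 ((map_sub _ _ _).symm.trans hk)
  rw [map_appTop, e, ← ideal_map_appTop]
  exact Ideal.mem_map_of_mem _ hy'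

include hc in
lemma exists_stage_forall_mem [∀ i, IsAffine (D.obj i)] {i : I} (K : Ideal Γ(D.obj i, ⊤))
    (S : Finset Γ(D.obj i, ⊤))
    (h : ∀ x ∈ S, (c.π.app i).appTop.hom x ∈ K.map (c.π.app i).appTop.hom) :
    ∃ (j : I) (t : j ⟶ i), ∀ x ∈ S, (D.map t).appTop.hom x ∈ K.map (D.map t).appTop.hom := by
  classical
  induction S using Finset.induction_on with
  | empty => exact ⟨i, 𝟙 i, by simp⟩
  | insert a s _ ih =>
    obtain ⟨j₁, t₁, h₁⟩ := ih fun x hx => h x (Finset.mem_insert_of_mem hx)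
    obtain ⟨j₂, t₂, h₂⟩ := exists_stage_mem D c hc K a (h a (Finset.mem_insert_self a s))
    obtain ⟨k, p, q, hpq⟩ := IsCofiltered.cospan t₁ t₂
    refine ⟨k, p ≫ t₁, fun x hx => ?_⟩
    obtain rfl | hx := Finset.mem_insert.1 hx
    · rw [hpq, map_appTop, ← ideal_map_appTop]
      exact Ideal.mem_map_of_mem _ h₂
    · rw [map_appTop, ← ideal_map_appTop]
      exact Ideal.mem_map_of_mem _ (h₁ x hx)

include hc in
/-- The affine case. -/
lemma affine_principal [∀ i, IsAffine (D.obj i)] [IsAffine c.pt] {i : I}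
    (J : (D.obj i).IdealSheafData) (hJ : (J.ideal ⟨⊤, isAffineOpen_top _⟩).FG)
    (π : c.pt ⟶ D.obj i) (hπ : π = c.π.app i)
    (h : ∃ a, (J.comap π).ideal ⟨⊤, isAffineOpen_top _⟩ = Ideal.span {a}) :
    ∃ (j : I) (t : j ⟶ i) (b : Γ(D.obj j, ⊤)),
      (J.comap (D.map t)).ideal ⟨⊤, isAffineOpen_top _⟩ = Ideal.span {b} := by
  classical
  subst hπ
  obtain ⟨a, ha⟩ := h
  rw [Comap.ideal_comap_of_isAffine (Y := D.obj i)] at ha
  obtain ⟨S, hS⟩ := hJ
  obtain ⟨j₀, a₀, rfl⟩ := exists_appTop_π_eq_of_isAffine_of_isLimit D c hc a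
  obtain ⟨m, t, q, -⟩ := IsCofilteredOrEmpty.cone_objs i j₀
  let K : Ideal Γ(D.obj m, ⊤) :=
    (J.ideal ⟨⊤, isAffineOpen_top _⟩).map (D.map t).appTop.hom
  let a' : Γ(D.obj m, ⊤) := (D.map q).appTop.hom a₀
  have hK : K.map (c.π.app m).appTop.hom = Ideal.span {(c.π.app m).appTop.hom a'} := by
    rw [π_appTop, Ideal.map_map]
    refine Eq.trans ?_ ha
    congr 1
    ext y
    exact π_appTop D c t y
  obtain ⟨k, r, hr⟩ := exists_stage_forall_mem D c hc (Ideal.span {a'})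
    (S.image (D.map t).appTop.hom) (fun x hx => by
      rw [Ideal.map_span, Set.image_singleton, ← hK]
      obtain ⟨g, hg, rfl⟩ := Finset.mem_image.1 hx
      exact Ideal.mem_map_of_mem _ (Ideal.mem_map_of_mem _ (hS ▸ Submodule.subset_span hg)))
  obtain ⟨l, s, hs⟩ := exists_stage_mem D c hc (K.map (D.map r).appTop.hom)
    ((D.map r).appTop.hom a') (by
      rw [π_appTop, Ideal.map_map]
      have e : (c.π.app k).appTop.hom.comp (D.map r).appTop.hom = (c.π.app m).appTop.hom :=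
        RingHom.ext fun y => π_appTop D c r y
      rw [e, hK]
      exact Ideal.mem_span_singleton_self _)
  refine ⟨l, s ≫ r ≫ t, (D.map (s ≫ r)).appTop.hom a', ?_⟩
  rw [Comap.ideal_comap_of_isAffine]
  refine le_antisymm ?_ ?_
  · rw [← hS, Ideal.map_span, Ideal.span_le]
    rintro _ ⟨g, hg, rfl⟩
    have h1 := Ideal.mem_map_of_mem (D.map s).appTop.hom (hr _ (Finset.mem_image_of_mem _ hg))
    rw [ideal_map_appTop, Ideal.map_span, Set.image_singleton] at h1
    show _ ∈ Ideal.span _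
    rw [map_appTop D s (r ≫ t), map_appTop D r t]
    rw [map_appTop D s r] at h1 ⊢
    exact h1
  · rw [Ideal.span_le, Set.singleton_subset_iff, map_appTop]
    have h1 := hs
    rw [ideal_map_appTop, ideal_map_appTop, Category.assoc] at h1
    exact h1

variable [∀ (i j : I) (t : i ⟶ j), IsAffineHom (D.map t)]

include hc in
/-- An ideal of finite type which is locally principal on the limit is so at some stage. -/
theorem exists_stage_locPrincipal [∀ i, CompactSpace (D.obj i)] {i : I}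
    (G : (D.obj i).IdealSheafData) (hG : ∀ U, (G.ideal U).FG)
    (h : ∀ x : c.pt, ∃ U : c.pt.affineOpens, x ∈ U.1 ∧
      ∃ a, (G.comap (c.π.app i)).ideal U = Ideal.span {a}) :
    ∃ (j : I) (t : j ⟶ i), ∀ x : D.obj j, ∃ U : (D.obj j).affineOpens, x ∈ U.1 ∧
      ∃ b, (G.comap (D.map t)).ideal U = Ideal.span {b} := by
  classical
  have key : ∀ x : c.pt, ∃ (j : I) (t : j ⟶ i) (V : (D.obj j).affineOpens),
      c.π.app j x ∈ V.1 ∧ ∃ b, (G.comap (D.map t)).ideal V = Ideal.span {b} := by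
    intro x
    obtain ⟨U, hxU, a, ha⟩ := h x
    obtain ⟨_, ⟨_, ⟨i₁, V, hV, rfl⟩, rfl⟩, hxV, hVU⟩ :=
      (isBasis_preimage_isAffineOpen D c hc).exists_subset_of_mem_open hxU U.1.2
    obtain ⟨m, p, q, -⟩ := IsCofilteredOrEmpty.cone_objs i i₁
    let V₁ : (D.obj m).Opens := D.map q ⁻¹ᵁ V
    have hV₁ : IsAffineOpen V₁ := hV.preimage _
    let πm : c.pt ⟶ D.obj m := c.π.app m
    have hπm : IsAffineHom πm := isAffineHom_π_app D c hc m
    have hle : πm ⁻¹ᵁ V₁ ≤ U.1 := fun y hy => hVU (by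
      have e : (πm ≫ D.map q) y = (c.π.app i₁) y := congr($(c.w q) y)
      show c.π.app i₁ y ∈ V
      rw [← e]
      exact hy)
    have hx₁ : πm x ∈ V₁ := by
      show (πm ≫ D.map q) x ∈ V
      have e : (πm ≫ D.map q) x = (c.π.app i₁) x := congr($(c.w q) x)
      rw [e]
      exact hxV
    have : ∀ j, IsAffine ((opensDiagram D m V₁).obj j) := fun j => hV₁.preimage (D.map _)
    have : IsAffine (opensCone D c m V₁).pt := hV₁.preimage πm
    have : IsAffine (πm ⁻¹ᵁ V₁ : c.pt.Opens).toScheme := hV₁.preimage πm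
    let m₀ : Over m := Over.mk (𝟙 m)
    let ι₀ : (opensDiagram D m V₁).obj m₀ ⟶ D.obj i :=
      (D.map (𝟙 m) ⁻¹ᵁ V₁).ι ≫ D.map (𝟙 m) ≫ D.map p
    let π₀ : (opensCone D c m V₁).pt ⟶ (opensDiagram D m V₁).obj m₀ :=
      (opensCone D c m V₁).π.app m₀
    have e0 : π₀ ≫ ι₀ = (πm ⁻¹ᵁ V₁).ι ≫ c.π.app i := by
      show Scheme.Hom.resLE (c.π.app m) _ _ _ ≫ (D.map (𝟙 m) ⁻¹ᵁ V₁).ι ≫ D.map (𝟙 m) ≫ D.map p = _
      rw [Scheme.Hom.resLE_comp_ι_assoc]
      congr 1
      rw [← Functor.map_comp, Category.id_comp]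
      exact c.w p
    obtain ⟨⟨j⟩, t, b, hb⟩ : ∃ (j : PLift (Over m)) (t : j.down ⟶ m₀)
        (b : Γ((opensDiagram D m V₁).obj j.down, ⊤)),
        ((G.comap ι₀).comap ((opensDiagram D m V₁).map t)).ideal ⟨⊤, isAffineOpen_top _⟩ =
          Ideal.span {b} := by
      obtain ⟨j, t, b, hb⟩ := affine_principal (opensDiagram D m V₁) (opensCone D c m V₁)
        (isLimitOpensCone D c hc m V₁) (i := m₀) (G.comap ι₀)
        (Groth.Agent.LimLib.fg_comap hG ι₀ _) π₀ rfl (by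
          have h1 : (G.comap ι₀).comap π₀ = (((G.comap (c.π.app i)).comap (πm ⁻¹ᵁ V₁).ι) :) := by
            refine (Scheme.IdealSheafData.comap_comp _ _ _).symm.trans ?_
            refine Eq.trans ?_ (Scheme.IdealSheafData.comap_comp _ _ _)
            exact congrArg G.comap e0
          exact ⟨_, h1 ▸ Comap.ideal_comap_span_singleton (G.comap (c.π.app i)) (πm ⁻¹ᵁ V₁).ι U
            ⟨⊤, isAffineOpen_top _⟩ (fun y _ => hle y.2) ha⟩)
      exact ⟨⟨j⟩, t, b, hb⟩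
    let W : (D.obj j.left).Opens := D.map j.hom ⁻¹ᵁ V₁
    have hW : IsAffineOpen W := hV₁.preimage _
    have e1 : (opensDiagram D m V₁).map t ≫ ι₀ = (W.ι ≫ D.map (j.hom ≫ p) :) := by
      show Scheme.Hom.resLE (D.map t.left) _ _ _ ≫ (D.map (𝟙 m) ⁻¹ᵁ V₁).ι ≫ D.map (𝟙 m) ≫ D.map p = _
      rw [Scheme.Hom.resLE_comp_ι_assoc]
      congr 1
      rw [← Functor.map_comp, ← Functor.map_comp]
      congr 1
      rw [Category.id_comp, ← Over.w t]
      exact congrArg (· ≫ p) (Category.comp_id _).symm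
    have h2 : (G.comap ι₀).comap ((opensDiagram D m V₁).map t) =
        (((G.comap (D.map (j.hom ≫ p))).comap W.ι) :) := by
      refine (Scheme.IdealSheafData.comap_comp _ _ _).symm.trans ?_
      refine Eq.trans ?_ (Scheme.IdealSheafData.comap_comp _ _ _)
      exact congrArg G.comap e1
    refine ⟨j.left, j.hom ≫ p, ⟨W, hW⟩, ?_, ?_⟩
    · show D.map j.hom (c.π.app j.left x) ∈ V₁
      have e : (c.π.app j.left ≫ D.map j.hom) x = πm x := congr($(c.w j.hom) x)
      rw [← Scheme.Hom.comp_apply, e]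
      exact hx₁
    · rw [h2] at hb
      have : IsAffine (W : Scheme.{u}) := hW
      replace hb := (Comap.ideal_comap_openImmersion (G.comap (D.map (j.hom ≫ p))) W.ι ⟨W, hW⟩
        ⟨⊤, isAffineOpen_top _⟩ W.ι_preimage_self.ge).symm.trans hb
      let φ := (W.ι.appLE W ⊤ W.ι_preimage_self.ge).hom
      have hbij : Function.Bijective φ := ConcreteCategory.bijective_of_isIso _
      obtain ⟨b', rfl⟩ := hbij.2 b
      refine ⟨b', ?_⟩
      have h3 := congrArg (Ideal.comap φ) hb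
      replace h3 := h3.trans (congrArg (Ideal.comap φ)
        (show Ideal.span {φ b'} = (Ideal.span {b'}).map φ by
          rw [Ideal.map_span, Set.image_singleton]))
      rwa [Ideal.comap_map_of_bijective _ hbij, Ideal.comap_map_of_bijective _ hbij] at h3
  choose j t V hxV hV using key
  have : CompactSpace c.pt := Scheme.compactSpace_of_isLimit D c hc
  obtain ⟨s, hs⟩ := isCompact_univ.elim_finite_subcover
    (fun x => ((show c.pt.Opens from c.π.app (j x) ⁻¹ᵁ (V x).1) : Set c.pt))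
    (fun x => (c.π.app (j x) ⁻¹ᵁ (V x).1).2)
    (fun x _ => Set.mem_iUnion.2 ⟨x, hxV x⟩)
  obtain ⟨k, φ, ψ, hψ⟩ := IsCofiltered.wideCospan fun x : s => t x.1
  obtain ⟨l, r, hr⟩ := exists_map_eq_top D c hc (⨆ x : s, D.map (ψ x) ⁻¹ᵁ (V x.1).1)
    (top_unique fun y _ => by
      obtain ⟨x, hx, hy⟩ := Set.mem_iUnion₂.1 (hs (Set.mem_univ y))
      refine Opens.mem_iSup.2 ⟨⟨x, hx⟩, ?_⟩
      show (c.π.app k ≫ D.map (ψ ⟨x, hx⟩)) y ∈ (V x).1
      have e : (c.π.app k ≫ D.map (ψ ⟨x, hx⟩)) y = c.π.app (j x) y := congr($(c.w (ψ ⟨x, hx⟩)) y)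
      rw [e]
      exact hy)
  refine ⟨l, r ≫ φ, fun y => ?_⟩
  obtain ⟨x, hx⟩ := Opens.mem_iSup.1 (hr.ge (Set.mem_univ y) :
    D.map r y ∈ ⨆ x : s, D.map (ψ x) ⁻¹ᵁ (V x.1).1)
  refine ⟨⟨D.map (r ≫ ψ x) ⁻¹ᵁ (V x.1).1, (V x.1).2.preimage _⟩, ?_, ?_⟩
  · show D.map (r ≫ ψ x) y ∈ (V x.1).1
    rw [Functor.map_comp, Scheme.Hom.comp_apply]
    exact hx
  · obtain ⟨b, hb⟩ := hV x.1
    have e : G.comap (D.map (r ≫ φ)) = (G.comap (D.map (t x.1))).comap (D.map (r ≫ ψ x)) := by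
      rw [← Scheme.IdealSheafData.comap_comp, ← Functor.map_comp, Category.assoc, hψ]
    rw [e]
    exact ⟨_, Comap.ideal_comap_span_singleton _ (D.map (r ≫ ψ x)) (V x.1) _ le_rfl hb⟩

end Groth.Agent.ModPairLib.LimitLocPrinAff
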