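import Groth.Agent.ModPairLib.LimitClosure

/-!
# Transforms of systems of modulus pairs along admissible blow-ups
-/

set_option autoImplicit false

universe u

open CategoryTheory CategoryTheory.Limits AlgebraicGeometry TopologicalSpace Groth.Agent.LimLib

namespace Groth.Agent.ModPairLib.LimitTransform

variable {I : Type u} [SmallCategory I] [IsCofiltered I]

/-- A cofiltered system of qcqs modulus pairs with affine minimal transition maps and its limit. -/
structure IsGood (D : I ⥤ ModPair.Pair.{u}) (c : Cone D) : Prop where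
  isAffineHom : ∀ (i j : I) (t : i ⟶ j), IsAffineHom (D.map t).hom
  compactSpace : ∀ i, CompactSpace (D.obj i).total
  quasiSeparatedSpace : ∀ i, QuasiSeparatedSpace (D.obj i).total
  isMinimal : ∀ (i j : I) (t : i ⟶ j),
    ModPair.IsMinimal (D.obj i).mod (D.obj j).mod (D.map t).hom
  comap_eq : ∀ i, c.pt.mod = (D.obj i).mod.comap (c.π.app i).hom
  isLimit : Nonempty (IsLimit (ModPair.Pair.forget.mapCone c))

variable {D : I ⥤ ModPair.Pair.{u}} {c : Cone D}

omit [IsCofiltered I] in
lemma IsGood.map_preimage (h : IsGood D c) {i j : I} (t : i ⟶ j) :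
    (D.map t).hom ⁻¹ᵁ ModPair.interior (D.obj j).mod = ModPair.interior (D.obj i).mod := by
  rw [← Dense.interior_comap, ← h.isMinimal i j t]

omit [IsCofiltered I] in
lemma IsGood.π_preimage (h : IsGood D c) (i : I) :
    (c.π.app i).hom ⁻¹ᵁ ModPair.interior (D.obj i).mod = ModPair.interior c.pt.mod := by
  have e := (Dense.interior_comap (c.π.app i).hom (D.obj i).mod).symm
  rwa [← h.comap_eq i] at e

variable (h : IsGood D c) {i : I} {B : ModPair.Pair.{u}} (b : B ⟶ D.obj i)

/-- The base changed system of schemes. -/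
noncomputable abbrev Z : Over i ⥤ Scheme.{u} := bcDiag (D ⋙ ModPair.Pair.forget) i b.hom

/-- The structure maps of the base changed system. -/
noncomputable def p (j : Over i) : (Z b).obj j ⟶ (D.obj j.left).total :=
  pullback.snd b.hom (D.map j.hom).hom

/-- The structure map of the base changed limit. -/
noncomputable def pLim (c : Cone D) : pullback b.hom (c.π.app i).hom ⟶ c.pt.total :=
  pullback.snd b.hom (c.π.app i).hom

/-- The cone over the base changed system. -/
noncomputable abbrev coneZ (c : Cone D) : Cone (Z b) where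
  pt := pullback b.hom (c.π.app i).hom
  π := (bcCone (c := ModPair.Pair.forget.mapCone c) (qY := pullback.fst b.hom (c.π.app i).hom)
    (g := pullback.snd b.hom (c.π.app i).hom) (IsPullback.of_hasPullback _ _)).π

omit [IsCofiltered I] in
lemma map_p {j k : Over i} (a : j ⟶ k) : (Z b).map a ≫ p b k = p b j ≫ (D.map a.left).hom :=
  pullback.lift_snd _ _ _

omit [IsCofiltered I] in
lemma coneZ_p (j : Over i) :
    (coneZ b c).π.app j ≫ p b j = pLim b c ≫ (c.π.app j.left).hom :=
  pullback.lift_snd _ _ _

/-- The transition maps of the transform. -/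
noncomputable def tmap {j k : Over i} (a : j ⟶ k) :
    (LimitClosure.pair (D.obj j.left) (p b j)).total ⟶
      (LimitClosure.pair (D.obj k.left) (p b k)).total :=
  LimitClosure.map ((Z b).map a) (D.map a.left).hom (map_p b a) (h.isMinimal _ _ a.left)

omit [IsCofiltered I] in
lemma tmap_incl {j k : Over i} (a : j ⟶ k) :
    tmap h b a ≫ LimitClosure.incl _ (p b k) = LimitClosure.incl _ (p b j) ≫ (Z b).map a :=
  LimitClosure.map_incl _ _ _ _

/-- The transformed system. -/
noncomputable abbrev trans : Over i ⥤ ModPair.Pair.{u} where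
  obj j := LimitClosure.pair (D.obj j.left) (p b j)
  map {j k} a := ⟨tmap h b a,
    (LimitClosure.map_minimal ((Z b).map a) (D.map a.left).hom (map_p b a)
      (h.isMinimal _ _ a.left)).le⟩
  map_id j := by
    refine ModPair.Pair.Hom.ext ?_
    show tmap h b (𝟙 j) = 𝟙 _
    rw [← cancel_mono (LimitClosure.incl _ (p b j)), tmap_incl, (Z b).map_id, Category.comp_id,
      Category.id_comp]
  map_comp {j k l} a a' := by
    refine ModPair.Pair.Hom.ext ?_
    show tmap h b (a ≫ a') = tmap h b a ≫ tmap h b a'
    rw [← cancel_mono (LimitClosure.incl _ (p b l)), tmap_incl, (Z b).map_comp, Category.assoc,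
      tmap_incl, ← Category.assoc (tmap h b a), tmap_incl, Category.assoc]

/-- The projections of the transform. -/
noncomputable def tπ (j : Over i) : (LimitClosure.pair c.pt (pLim b c)).total ⟶
    (LimitClosure.pair (D.obj j.left) (p b j)).total :=
  LimitClosure.map ((coneZ b c).π.app j) (c.π.app j.left).hom (coneZ_p b j) (h.comap_eq j.left)

omit [IsCofiltered I] in
lemma tπ_incl (j : Over i) : tπ h b j ≫ LimitClosure.incl _ (p b j) =
    LimitClosure.incl c.pt (pLim b c) ≫ (coneZ b c).π.app j :=
  LimitClosure.map_incl _ _ _ _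

omit [IsCofiltered I] in
lemma tπ_map {j k : Over i} (a : j ⟶ k) : tπ h b j ≫ tmap h b a = tπ h b k := by
  rw [← cancel_mono (LimitClosure.incl _ (p b k)), Category.assoc, tmap_incl, ← Category.assoc,
    tπ_incl, tπ_incl, Category.assoc, (coneZ b c).w]

/-- The limit cone of the transformed system. -/
noncomputable abbrev transCone : Cone (trans h b) where
  pt := LimitClosure.pair c.pt (pLim b c)
  π :=
    { app := fun j => ⟨tπ h b j, (LimitClosure.map_minimal ((coneZ b c).π.app j)
        (c.π.app j.left).hom (coneZ_p b j) (h.comap_eq j.left)).le⟩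
      naturality := fun j k a => ModPair.Pair.Hom.ext ((Category.id_comp _).trans (tπ_map h b a).symm) }

/-- The maps to the original system. -/
noncomputable def transHom : trans h b ⟶ Over.forget i ⋙ D where
  app j := LimitClosure.toPair (D.obj j.left) (p b j)
  naturality j k a := ModPair.Pair.Hom.ext
    (LimitClosure.map_toPair ((Z b).map a) (D.map a.left).hom (map_p b a) (h.isMinimal _ _ a.left))

/-- The map of limits. -/
noncomputable def transLimHom : (transCone h b).pt ⟶ c.pt := LimitClosure.toPair c.pt (pLim b c)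

omit [IsCofiltered I] in
lemma transCone_π (j : Over i) :
    (transCone h b).π.app j ≫ (transHom h b).app j = transLimHom h b ≫ c.π.app j.left :=
  ModPair.Pair.Hom.ext
    (LimitClosure.map_toPair ((coneZ b c).π.app j) (c.π.app j.left).hom (coneZ_p b j)
      (h.comap_eq j.left))

include h in
omit [IsCofiltered I] in
lemma isIso_p (hb : ModPair.Pair.admBlowup b) (j : Over i) :
    IsIso (p b j ∣_ ModPair.interior (D.obj j.left).mod) :=
  LimitBlowup.isIso_restrict_of_isPullback
    (IsPullback.of_hasPullback b.hom (D.map j.hom).hom)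
    (ModPair.interior (D.obj i).mod) _ (h.map_preimage j.hom) hb.2.2

include h in
omit [IsCofiltered I] in
lemma isIso_pLim (hb : ModPair.Pair.admBlowup b) :
    IsIso (pLim b c ∣_ ModPair.interior c.pt.mod) :=
  LimitBlowup.isIso_restrict_of_isPullback (IsPullback.of_hasPullback b.hom (c.π.app i).hom)
    (ModPair.interior (D.obj i).mod) _ (h.π_preimage i) hb.2.2

omit [IsCofiltered I] in
lemma transHom_admBlowup (hb : ModPair.Pair.admBlowup b) (j : Over i) :
    ModPair.Pair.admBlowup ((transHom h b).app j) := by
  have : IsProper b.hom := hb.2.1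
  have : IsProper (p b j) := MorphismProperty.pullback_snd _ _ hb.2.1
  exact LimitClosure.toPair_admBlowup (D.obj j.left) (p b j) (isIso_p h b hb j)

omit [IsCofiltered I] in
lemma transLimHom_admBlowup (hb : ModPair.Pair.admBlowup b) :
    ModPair.Pair.admBlowup (transLimHom h b) := by
  have : IsProper b.hom := hb.2.1
  have : IsProper (pLim b c) := MorphismProperty.pullback_snd _ _ hb.2.1
  exact LimitClosure.toPair_admBlowup c.pt (pLim b c) (isIso_pLim h b hb)

omit [IsCofiltered I] in
lemma dominant_map (hb : ModPair.Pair.admBlowup b)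
    (hd : ∀ (j k : I) (a : j ⟶ k), IsSchemeTheoreticallyDominant (D.map a).hom) {j k : Over i}
    (a : j ⟶ k) : IsSchemeTheoreticallyDominant ((trans h b).map a).hom := by
  have := hd _ _ a.left
  have := h.isAffineHom _ _ a.left
  exact LimitClosure.dominant_map ((Z b).map a) (D.map a.left).hom (map_p b a) (h.isMinimal _ _ a.left) (isIso_p h b hb j) (isIso_p h b hb k)

omit [IsCofiltered I] in
lemma isAffineHom_tmap {j k : Over i} (a : j ⟶ k) : IsAffineHom (tmap h b a) := by
  have : ∀ (x y : I) (t : x ⟶ y), IsAffineHom ((D ⋙ ModPair.Pair.forget).map t) :=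
    fun x y t => h.isAffineHom x y t
  have : IsAffineHom ((Z b).map a) := inferInstance
  have : IsAffineHom (tmap h b a ≫ LimitClosure.incl _ (p b k)) := by
    rw [tmap_incl]
    infer_instance
  exact IsAffineHom.of_comp _ (LimitClosure.incl _ (p b k))

/-- The ideal of the intersection of the closures in the limit. -/
noncomputable def K (c : Cone D) : (pullback b.hom (c.π.app i).hom).IdealSheafData :=
  ⨆ j, (LimitClosure.incl (D.obj j.left) (p b j)).ker.comap ((coneZ b c).π.app j)

include h in
omit [IsCofiltered I] in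
lemma exists_factor (hl : IsLimit (coneZ b c)) (T : Cone (trans h b ⋙ ModPair.Pair.forget)) :
    ∃ τ : T.pt ⟶ pullback b.hom (c.π.app i).hom,
      (∀ j, τ ≫ (coneZ b c).π.app j = T.π.app j ≫ LimitClosure.incl _ (p b j)) ∧
        K b c ≤ τ.ker := by
  let ε : trans h b ⋙ ModPair.Pair.forget ⟶ Z b :=
    { app := fun j => LimitClosure.incl _ (p b j)
      naturality := fun j k a => tmap_incl h b a }
  refine ⟨hl.lift ((Cone.postcompose ε).obj T), fun j => hl.fac _ j, iSup_le fun j => ?_⟩
  rw [← Scheme.IdealSheafData.le_map_iff_comap_le, Scheme.IdealSheafData.map_ker, hl.fac]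
  exact Scheme.Hom.le_ker_comp _ _

omit [IsCofiltered I] in
lemma le_K (j : Over i) :
    (LimitClosure.incl (D.obj j.left) (p b j)).ker.comap ((coneZ b c).π.app j) ≤ K b c :=
  le_iSup_of_le j le_rfl

omit [IsCofiltered I] in
lemma K_le (j : Over i) : (LimitClosure.incl (D.obj j.left) (p b j)).ker ≤
    ((K b c).subschemeι ≫ (coneZ b c).π.app j).ker := by
  rw [← Scheme.IdealSheafData.map_ker, Scheme.IdealSheafData.ker_subschemeι,
    Scheme.IdealSheafData.le_map_iff_comap_le]
  exact le_K b j

/-- The projections of the intersection of the closures. -/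
noncomputable def Kπ (c : Cone D) (j : Over i) :
    (K b c).subscheme ⟶ (LimitClosure.pair (D.obj j.left) (p b j)).total :=
  IsClosedImmersion.lift (LimitClosure.incl _ (p b j))
    ((K b c).subschemeι ≫ (coneZ b c).π.app j) (K_le b j)

omit [IsCofiltered I] in
lemma Kπ_incl (j : Over i) : Kπ b c j ≫ LimitClosure.incl _ (p b j) =
    (K b c).subschemeι ≫ (coneZ b c).π.app j :=
  IsClosedImmersion.lift_fac _ _ _

omit [IsCofiltered I] in
lemma Kπ_map {j k : Over i} (a : j ⟶ k) : Kπ b c j ≫ tmap h b a = Kπ b c k := by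
  rw [← cancel_mono (LimitClosure.incl _ (p b k)), Category.assoc, tmap_incl, ← Category.assoc,
    Kπ_incl, Kπ_incl, Category.assoc, (coneZ b c).w]

/-- The intersection of the closures as a cone. -/
noncomputable def coneK : Cone (trans h b ⋙ ModPair.Pair.forget) where
  pt := (K b c).subscheme
  π :=
    { app := fun j => Kπ b c j
      naturality := fun j k a => (Category.id_comp _).trans (Kπ_map h b a).symm }

/-- The intersection of the closures is their limit. -/
noncomputable def isLimitConeK (hl : IsLimit (coneZ b c)) : IsLimit (coneK h b) :=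
  IsLimit.ofExistsUnique fun T => by
    obtain ⟨τ, hτ, hτK⟩ := exists_factor h b hl T
    have hτK' : (K b c).subschemeι.ker ≤ τ.ker := by rwa [Scheme.IdealSheafData.ker_subschemeι]
    let l := IsClosedImmersion.lift (K b c).subschemeι τ hτK'
    refine ⟨l, fun j => ?_, fun f hf => ?_⟩
    · refine (cancel_mono (LimitClosure.incl _ (p b j))).1 ?_
      show (_ ≫ Kπ b c j) ≫ _ = _
      rw [Category.assoc, Kπ_incl, IsClosedImmersion.lift_fac_assoc]
      exact hτ j
    · have hmono : Mono (K b c).subschemeι := inferInstance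
      refine hmono.right_cancellation _ _ (hl.hom_ext fun j => ?_)
      rw [IsClosedImmersion.lift_fac, hτ, Category.assoc, ← Kπ_incl, ← Category.assoc]
      exact congrArg (· ≫ LimitClosure.incl _ (p b j)) (hf j)

include h in
lemma K_eq (hl : IsLimit (coneZ b c)) :
    K b c = (LimitClosure.incl c.pt (pLim b c)).ker := by
  refine le_antisymm (iSup_le fun j => ?_) ?_
  · rw [← Scheme.IdealSheafData.le_map_iff_comap_le, Scheme.IdealSheafData.map_ker]
    exact LimitClosure.ker_le _ _ (coneZ_p b j) (h.comap_eq j.left)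
  · let j₀ : Over i := Over.mk (𝟙 i)
    have e : c.pt.mod.comap ((K b c).subschemeι ≫ pLim b c) =
        ((trans h b).obj j₀).mod.comap ((coneK h b).π.app j₀) := by
      show _ = ((D.obj j₀.left).mod.comap (LimitClosure.incl _ (p b j₀) ≫ p b j₀)).comap (Kπ b c j₀)
      rw [h.comap_eq j₀.left, ← Scheme.IdealSheafData.comap_comp,
        ← Scheme.IdealSheafData.comap_comp, ← Category.assoc (Kπ b c j₀), Kπ_incl]
      refine congrArg (fun f => (D.obj j₀.left).mod.comap f) ?_
      exact (Category.assoc _ _ _).trans ((congrArg ((K b c).subschemeι ≫ ·) (coneZ_p b j₀).symm).trans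
        (Category.assoc _ _ _).symm)
    have hKc : BlowUp.IsEffCartierIdeal (c.pt.mod.comap ((K b c).subschemeι ≫ pLim b c)) := by
      rw [e]
      have : ∀ (j k : Over i) (a : j ⟶ k),
          IsAffineHom ((trans h b ⋙ ModPair.Pair.forget).map a) := fun j k a => isAffineHom_tmap h b a
      exact LimitCartier.isEffCartierIdeal_comap_limit (trans h b ⋙ ModPair.Pair.forget) (coneK h b)
        (isLimitConeK h b hl) (fun j => ((trans h b).obj j).mod)
        (fun j => ((trans h b).obj j).isEffCartier)
        (fun j k a => LimitClosure.map_minimal _ _ (map_p b a) (h.isMinimal _ _ a.left)) j₀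
    have hdom := Dense.isSchemeTheoreticallyDominant_interior hKc
    rw [Dense.interior_comap] at hdom
    have h2 : ((((K b c).subschemeι ≫ pLim b c) ⁻¹ᵁ ModPair.interior c.pt.mod).ι ≫
        (K b c).subschemeι).ker = K b c := by
      rw [Scheme.Hom.ker_comp, hdom.ker_eq_bot, Scheme.IdealSheafData.map_bot,
        Scheme.IdealSheafData.ker_subschemeι]
    refine le_of_le_of_eq ?_ h2
    rw [LimitClosure.ker_incl]
    exact (Scheme.Hom.le_ker_comp _ _).trans_eq (congrArg Scheme.Hom.ker
      (Scheme.Hom.resLE_comp_ι (K b c).subschemeι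
        (U := pLim b c ⁻¹ᵁ ModPair.interior c.pt.mod) le_rfl))

include h in
lemma nonempty_isLimit_coneZ : Nonempty (IsLimit (coneZ b c)) :=
  h.isLimit.map fun hl =>
    isLimitBcCone hl (IsPullback.of_hasPullback b.hom (c.π.app i).hom)

theorem isGood (hb : ModPair.Pair.admBlowup b) : IsGood (trans h b) (transCone h b) := by
  obtain ⟨hl⟩ := nonempty_isLimit_coneZ h b
  have : IsProper b.hom := hb.2.1
  have := h.compactSpace i
  have := h.quasiSeparatedSpace i
  have : CompactSpace B.total := QuasiCompact.compactSpace_of_compactSpace b.hom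
  have : QuasiSeparatedSpace B.total := quasiSeparatedSpace_of_quasiSeparated b.hom
  have hp : ∀ j, IsProper (p b j) := fun j => MorphismProperty.pullback_snd _ _ hb.2.1
  refine ⟨fun j k a => isAffineHom_tmap h b a, fun j => ?_, fun j => ?_,
    fun j k a => LimitClosure.map_minimal _ _ (map_p b a) (h.isMinimal _ _ a.left),
    fun j => LimitClosure.map_minimal _ _ (coneZ_p b j) (h.comap_eq j.left), ⟨?_⟩⟩
  · have := h.compactSpace j.left
    have := hp j
    exact QuasiCompact.compactSpace_of_compactSpace (LimitClosure.incl _ (p b j) ≫ p b j)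
  · have := h.quasiSeparatedSpace j.left
    have := hp j
    exact quasiSeparatedSpace_of_quasiSeparated (LimitClosure.incl _ (p b j) ≫ p b j)
  · have hK := K_eq h b hl
    refine IsLimit.ofExistsUnique fun T => ?_
    obtain ⟨τ, hτ, hτK⟩ := exists_factor h b hl T
    let l := IsClosedImmersion.lift (LimitClosure.incl c.pt (pLim b c)) τ (hK ▸ hτK)
    refine ⟨l, fun j => ?_, fun f hf => ?_⟩
    · show _ ≫ tπ h b j = _
      refine (cancel_mono (LimitClosure.incl _ (p b j))).1 ?_
      rw [Category.assoc, tπ_incl, IsClosedImmersion.lift_fac_assoc]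
      exact hτ j
    · have hmono : Mono (LimitClosure.incl c.pt (pLim b c)) := inferInstance
      refine hmono.right_cancellation _ _ (hl.hom_ext fun j => ?_)
      rw [IsClosedImmersion.lift_fac, hτ, Category.assoc, ← tπ_incl h b j, ← Category.assoc]
      exact congrArg (· ≫ LimitClosure.incl _ (p b j)) (hf j)

include h in
/-- An admissible blow-up of the limit embedded in the base change is the transform. -/
theorem exists_iso (hb : ModPair.Pair.admBlowup b) {R : ModPair.Pair.{u}} (s : R ⟶ c.pt)
    (hs : ModPair.Pair.admBlowup s) (v : R.total ⟶ pullback b.hom (c.π.app i).hom)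
    [IsClosedImmersion v] (hvs : v ≫ pLim b c = s.hom) :
    ∃ e : R ≅ (transCone h b).pt, e.hom ≫ transLimHom h b = s := by
  obtain ⟨hs₁, hs₂, hs₃⟩ := hs
  have h1 : v.ker = (pLim b c ⁻¹ᵁ ModPair.interior c.pt.mod).ι.ker := by
    have h1 : IsIso ((v ≫ pLim b c) ∣_ ModPair.interior c.pt.mod) := by rw [hvs]; exact hs₃
    have h2 : IsSchemeTheoreticallyDominant ((v ≫ pLim b c) ⁻¹ᵁ ModPair.interior c.pt.mod).ι := by
      rw [hvs, ← Dense.interior_comap, ← show R.mod = c.pt.mod.comap s.hom from hs₁]
      exact Dense.isSchemeTheoreticallyDominant_interior R.isEffCartier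
    exact LimitBlowup.ker_eq_of_isIso v (pLim b c) _ (isIso_pLim h b hb) h1
  have he : (LimitClosure.incl c.pt (pLim b c)).ker = v.ker :=
    (LimitClosure.ker_incl _ _).trans h1.symm
  let e₁ := IsClosedImmersion.lift (LimitClosure.incl c.pt (pLim b c)) v he.le
  have : IsIso e₁ := IsClosedImmersion.isIso_lift _ v he
  have hcomp : e₁ ≫ (transLimHom h b).hom = s.hom := by
    show e₁ ≫ LimitClosure.incl c.pt (pLim b c) ≫ pLim b c = s.hom
    rw [IsClosedImmersion.lift_fac_assoc, hvs]
  have hmod : R.mod = (transCone h b).pt.mod.comap e₁ := by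
    show _ = (c.pt.mod.comap (transLimHom h b).hom).comap e₁
    rw [← Scheme.IdealSheafData.comap_comp, hcomp]
    exact hs₁
  refine ⟨⟨⟨e₁, hmod.le⟩, ⟨inv e₁, ?_⟩, ModPair.Pair.Hom.ext (IsIso.hom_inv_id e₁),
    ModPair.Pair.Hom.ext (IsIso.inv_hom_id e₁)⟩, ModPair.Pair.Hom.ext hcomp⟩
  show (transCone h b).pt.mod ≤ R.mod.comap (inv e₁)
  rw [hmod, ← Scheme.IdealSheafData.comap_comp, IsIso.inv_hom_id, Scheme.IdealSheafData.comap_id]

end Groth.Agent.ModPairLib.LimitTransform
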