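import Mathlib.AlgebraicGeometry.Normalization
import Mathlib.AlgebraicGeometry.Morphisms.IsIso
import Mathlib.AlgebraicGeometry.Morphisms.Finite

/-!
# The relative normalization over an open where the morphism is integral
-/

set_option autoImplicit false

universe u

open CategoryTheory CategoryTheory.Limits AlgebraicGeometry TopologicalSpace

namespace Groth.Agent.ModPairLib.NormRestrict

variable {X Y : Scheme.{u}}

/-- If `f = g ≫ U.ι` with `g` integral then `f` is integral on the affine opens inside `U`. -/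
lemma isIntegral_app_of_le (U : Y.Opens) (g : X ⟶ U) [IsIntegralHom g] (V : Y.affineOpens)
    (h : V.1 ≤ U) : ((g ≫ U.ι).app V.1).hom.IsIntegral := by
  have hV : IsAffineOpen (U.ι ⁻¹ᵁ V.1) :=
    V.2.preimage_of_isOpenImmersion U.ι (by rw [Scheme.Opens.opensRange_ι]; exact h)
  have : IsIso (U.ι.app V.1) :=
    Scheme.Hom.isIso_app _ _ (by rw [Scheme.Opens.opensRange_ι]; exact h)
  show ((g.app (U.ι ⁻¹ᵁ V.1)).hom.comp (U.ι.app V.1).hom).IsIntegral
  exact RingHom.IsIntegral.trans _ _
    (RingHom.isIntegral_of_surjective _ (ConcreteCategory.bijective_of_isIso (U.ι.app V.1)).2)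
    (g.isIntegral_app _ hV)

lemma isIso_map_eqToHom {U V : X.Opens} (e : U = V) :
    IsIso (X.presheaf.map (eqToHom e).op) := by
  subst e
  simp only [eqToHom_refl, op_id, CategoryTheory.Functor.map_id]
  infer_instance

lemma isIso_restrict_affine (f : X ⟶ Y) [IsAffineHom f] (V : Y.affineOpens)
    (h : (f.app V.1).hom.IsIntegral) :
    IsIso (f.toNormalization ∣_ (f.fromNormalization ⁻¹ᵁ V.1)) := by
  set O := f.fromNormalization ⁻¹ᵁ V.1 with hO'
  have hO : IsAffineOpen O := V.2.preimage _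
  have : IsAffine (O : Scheme.{u}) := hO
  have hiso : IsIso (f.toNormalization.app O) := by
    rw [hO', f.toNormalization_app_preimage V]
    letI := (f.app V.1).hom.toAlgebra
    have htop : integralClosure Γ(Y, V.1) Γ(X, f ⁻¹ᵁ V.1) = ⊤ := by
      rw [integralClosure_eq_top_iff, ← algebraMap_isIntegral_iff, RingHom.algebraMap_toAlgebra]
      exact h
    have : IsIso (CommRingCat.ofHom
        (integralClosure Γ(Y, V.1) Γ(X, f ⁻¹ᵁ V.1)).val.toRingHom) := by
      refine (ConcreteCategory.isIso_iff_bijective _).2 ⟨Subtype.val_injective, fun x => ?_⟩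
      exact ⟨⟨x, htop ▸ Algebra.mem_top⟩, rfl⟩
    exact IsIso.comp_isIso' inferInstance (IsIso.comp_isIso' this inferInstance)
  refine (HasAffineProperty.iff_of_isAffine (P := MorphismProperty.isomorphisms Scheme.{u})).2
    ⟨hO.preimage f.toNormalization, ?_⟩
  rw [morphismRestrict_appTop]
  have e : O.ι ''ᵁ ⊤ = O := O.ι_image_top
  have : IsIso (f.toNormalization.app (O.ι ''ᵁ ⊤)) := by rw [e]; exact hiso
  exact IsIso.comp_isIso' this (isIso_map_eqToHom _)

/-- Over an open where `f` is integral the map to the relative normalization is an isomorphism. -/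
theorem isIso_restrict (f : X ⟶ Y) [IsAffineHom f] (U : Y.Opens)
    (h : ∀ V : Y.affineOpens, V.1 ≤ U → (f.app V.1).hom.IsIntegral) :
    IsIso (f.toNormalization ∣_ (f.fromNormalization ⁻¹ᵁ U)) := by
  set W := f.fromNormalization ⁻¹ᵁ U
  let O : {V : Y.affineOpens // V.1 ≤ U} → (W : Scheme.{u}).Opens :=
    fun V => W.ι ⁻¹ᵁ (f.fromNormalization ⁻¹ᵁ V.1.1)
  refine (IsZariskiLocalAtTarget.iff_of_iSup_eq_top (P := MorphismProperty.isomorphisms Scheme.{u})
    O ?_).2 fun V => ?_
  · refine top_unique fun x _ => ?_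
    obtain ⟨_, ⟨V, hV, rfl⟩, hxV, hle⟩ := Y.isBasis_affineOpens.exists_subset_of_mem_open
      (a := f.fromNormalization x.1) x.2 U.2
    exact Opens.mem_iSup.2 ⟨⟨⟨V, hV⟩, hle⟩, hxV⟩
  · refine (MorphismProperty.isomorphisms Scheme.{u}).arrow_mk_iso_iff
      (morphismRestrictRestrict _ _ _) |>.2 ?_
    have e : W.ι ''ᵁ O V = f.fromNormalization ⁻¹ᵁ V.1.1 := by
      rw [Scheme.Hom.image_preimage_eq_opensRange_inf, Scheme.Opens.opensRange_ι, inf_eq_right]
      exact Scheme.Hom.preimage_mono _ V.2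
    rw [e]
    exact isIso_restrict_affine f V.1 (h V.1 V.2)

end Groth.Agent.ModPairLib.NormRestrict
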