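import Groth.Agent.ModPairLib.Product
import Groth.Agent.ModPairLib.LocPullback
import Groth.Agent.S18738

/-!
# Ambient products are fibre products after inverting admissible blow-ups
-/

set_option autoImplicit false

universe v w u

open CategoryTheory CategoryTheory.Limits AlgebraicGeometry TopologicalSpace

namespace Groth.Agent.ModPairLib.PairPullback

variable {D : Type v} [Category.{w} D] (L : ModPair.Pair.{u} ⥤ D)
  [L.IsLocalization ModPair.Pair.admBlowup.{u}]

theorem isPullback_map {P T X : ModPair.Pair.{u}} (f : X ⟶ P) (g : T ⟶ P)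
    {Y : Scheme.{u}} {π : Y ⟶ ModPair.mprod f.hom g.hom X.mod T.mod} {K : Y.IdealSheafData}
    (hY : ModPair.IsAmbProd f.hom g.hom X.mod T.mod π K) (hK : BlowUp.IsEffCartierIdeal K)
    (hX : ModPair.IsAmbient K X.mod (π ≫ ModPair.mprodι f.hom g.hom X.mod T.mod ≫ pullback.fst f.hom g.hom))
    (hT : ModPair.IsAmbient K T.mod (π ≫ ModPair.mprodι f.hom g.hom X.mod T.mod ≫ pullback.snd f.hom g.hom)) :
    IsPullback
      (L.map (ModPair.Pair.Hom.mk (P := ModPair.Pair.mk Y K hK) (Q := X)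
          (π ≫ ModPair.mprodι f.hom g.hom X.mod T.mod ≫ pullback.fst f.hom g.hom) hX))
      (L.map (ModPair.Pair.Hom.mk (P := ModPair.Pair.mk Y K hK) (Q := T)
          (π ≫ ModPair.mprodι f.hom g.hom X.mod T.mod ≫ pullback.snd f.hom g.hom) hT))
      (L.map f) (L.map g) := by
  have := Groth.Agent.S18738.result.{u}
  refine LocPullback.isPullback_map L ModPair.Pair.admBlowup.{u} ?_ ?_ ?_
  · apply ModPair.Pair.Hom.ext
    show (π ≫ _ ≫ pullback.fst _ _) ≫ f.hom = (π ≫ _ ≫ pullback.snd _ _) ≫ g.hom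
    simp only [Category.assoc, pullback.condition]
  · intro W a b hab
    obtain ⟨W', β, c, hW', hβ, hc, hca, hcb⟩ := Product.exists_lift X.isEffCartier T.isEffCartier hY
      W.isEffCartier a.hom b.hom a.cond b.cond (congrArg ModPair.Pair.Hom.hom hab)
    exact ⟨⟨W', _, hW'⟩, ⟨β, hβ.1.le⟩, ⟨c, hc⟩, hβ, ModPair.Pair.Hom.ext hca,
      ModPair.Pair.Hom.ext hcb⟩
  · intro W c₁ c₂ h₁ h₂
    refine ⟨W, 𝟙 W, MorphismProperty.id_mem _ _, ?_⟩
    rw [Category.id_comp, Category.id_comp]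
    have h₁' : c₁.hom ≫ π ≫ ModPair.mprodι f.hom g.hom X.mod T.mod ≫ pullback.fst f.hom g.hom =
        c₂.hom ≫ π ≫ ModPair.mprodι f.hom g.hom X.mod T.mod ≫ pullback.fst f.hom g.hom :=
      congrArg ModPair.Pair.Hom.hom h₁
    have h₂' : c₁.hom ≫ π ≫ ModPair.mprodι f.hom g.hom X.mod T.mod ≫ pullback.snd f.hom g.hom =
        c₂.hom ≫ π ≫ ModPair.mprodι f.hom g.hom X.mod T.mod ≫ pullback.snd f.hom g.hom :=
      congrArg ModPair.Pair.Hom.hom h₂
    refine ModPair.Pair.Hom.ext (Product.hom_ext X.isEffCartier T.isEffCartier hY W.isEffCartier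
      c₁.cond c₂.cond ?_)
    apply pullback.hom_ext
    · simpa only [Category.assoc] using h₁'
    · simpa only [Category.assoc] using h₂'

theorem exists_isPullback {P T X : ModPair.Pair.{u}} (f : X ⟶ P) (g : T ⟶ P) :
    ∃ (Q : ModPair.Pair.{u}) (p : Q ⟶ X) (q : Q ⟶ T),
      IsPullback (L.map p) (L.map q) (L.map f) (L.map g) := by
  obtain ⟨Y, π, K, hY⟩ := Product.exists_isAmbProd (f := f.hom) (g := g.hom) X.isEffCartier T.isEffCartier
  exact ⟨_, _, _, isPullback_map L f g hY (Product.isEffCartier_mul X.isEffCartier T.isEffCartier hY)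
    (Product.le_fst hY) (Product.le_snd hY)⟩

end Groth.Agent.ModPairLib.PairPullback
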