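import Groth.Agent.ModPairLib.Image
import Groth.Agent.ModPairLib.Divide
import Groth.Agent.BlowUpProper.Basic
import Groth.Agent.S18731

/-!
# Ambient products of modulus pairs
-/

set_option autoImplicit false

universe u

open CategoryTheory CategoryTheory.Limits AlgebraicGeometry TopologicalSpace
open Groth.Agent.IdealSh Groth.Agent.BlowUp

namespace Groth.Agent.ModPairLib.Product

variable {S T X Y W : Scheme.{u}} {f : X ⟶ S} {g : T ⟶ S} {I : X.IdealSheafData}
  {J : T.IdealSheafData}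

lemma mem_prodInterior {x : (pullback f g : Scheme.{u})} : x ∈ ModPair.prodInterior f g I J ↔
    pullback.fst f g x ∈ ModPair.interior I ∧ pullback.snd f g x ∈ ModPair.interior J := Iff.rfl

lemma isAffineHom_prodInterior (hI : BlowUp.IsEffCartierIdeal I) (hJ : BlowUp.IsEffCartierIdeal J) :
    IsAffineHom (ModPair.prodInterior f g I J).ι := by
  have h1 := Dense.isAffineHom_preimage hI (pullback.fst f g)
  have h2 := Dense.isAffineHom_preimage hJ (pullback.snd f g)
  have h3 := MorphismProperty.of_isPullback (P := @IsAffineHom)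
    (isPullback_opens_inf (pullback.fst f g ⁻¹ᵁ ModPair.interior I)
      (pullback.snd f g ⁻¹ᵁ ModPair.interior J)).flip h2
  show IsAffineHom (pullback.fst f g ⁻¹ᵁ ModPair.interior I ⊓
    pullback.snd f g ⁻¹ᵁ ModPair.interior J).ι
  rw [← Scheme.homOfLE_ι (pullback f g) (inf_le_left : pullback.fst f g ⁻¹ᵁ ModPair.interior I ⊓
    pullback.snd f g ⁻¹ᵁ ModPair.interior J ≤ _)]
  have := h3
  infer_instance

lemma isEffCartier_fst (hI : BlowUp.IsEffCartierIdeal I) (hJ : BlowUp.IsEffCartierIdeal J) :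
    BlowUp.IsEffCartierIdeal (I.comap (ModPair.mprodι f g I J ≫ pullback.fst f g)) := by
  have := isAffineHom_prodInterior (f := f) (g := g) hI hJ
  exact Image.isEffCartierIdeal_comap_image hI _ _ fun v => v.2.1

lemma isEffCartier_snd (hI : BlowUp.IsEffCartierIdeal I) (hJ : BlowUp.IsEffCartierIdeal J) :
    BlowUp.IsEffCartierIdeal (J.comap (ModPair.mprodι f g I J ≫ pullback.snd f g)) := by
  have := isAffineHom_prodInterior (f := f) (g := g) hI hJ
  exact Image.isEffCartierIdeal_comap_image hJ _ _ fun v => v.2.2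

lemma isFiniteType_prodCentre (hI : BlowUp.IsEffCartierIdeal I) (hJ : BlowUp.IsEffCartierIdeal J) :
    BlowUp.IsFiniteTypeIdeal (ModPair.prodCentre f g I J) :=
  Divide.isFiniteTypeIdeal_sup (isEffCartier_fst hI hJ) (isEffCartier_snd hI hJ)

/-- A morphism to the fibre product which maps a dense open into the product of the interiors
factors through the closure of the latter. -/
lemma exists_lift_mprod {IW : W.IdealSheafData} (hW : BlowUp.IsEffCartierIdeal IW)
    (a : W ⟶ pullback f g) (ha : ∀ x ∈ ModPair.interior IW, a x ∈ ModPair.prodInterior f g I J) :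
    ∃ c : W ⟶ ModPair.mprod f g I J, c ≫ ModPair.mprodι f g I J = a := by
  have := Dense.isSchemeTheoreticallyDominant_interior hW
  set U := ModPair.prodInterior f g I J
  set V := ModPair.interior IW
  have hk : (V.ι ≫ a).ker = a.ker := by
    rw [Scheme.Hom.ker_comp, V.ι.ker_eq_bot, Scheme.IdealSheafData.map_bot]
  have hle : U.ι.ker ≤ a.ker := by
    rw [← hk, ← IsOpenImmersion.lift_fac U.ι (V.ι ≫ a) (by
      rw [Scheme.Opens.range_ι]
      rintro _ ⟨v, rfl⟩
      exact ha _ v.2)]
    exact Scheme.Hom.le_ker_comp _ _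
  exact ⟨IsClosedImmersion.lift U.ι.imageι a (by rwa [Scheme.Hom.imageι,
    Scheme.IdealSheafData.ker_subschemeι]), IsClosedImmersion.lift_fac _ _ _⟩

variable {π : Y ⟶ ModPair.mprod f g I J} {K : Y.IdealSheafData}

lemma mul_eq (h : ModPair.IsAmbProd f g I J π K) :
    K * (I.comap (π ≫ ModPair.mprodι f g I J ≫ pullback.fst f g) ⊔
        J.comap (π ≫ ModPair.mprodι f g I J ≫ pullback.snd f g)) =
      I.comap (π ≫ ModPair.mprodι f g I J ≫ pullback.fst f g) *
        J.comap (π ≫ ModPair.mprodι f g I J ≫ pullback.snd f g) ∧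
    BlowUp.IsEffCartierIdeal (I.comap (π ≫ ModPair.mprodι f g I J ≫ pullback.fst f g) ⊔
        J.comap (π ≫ ModPair.mprodι f g I J ≫ pullback.snd f g)) := by
  have e : (ModPair.prodCentre f g I J).comap π =
      I.comap (π ≫ ModPair.mprodι f g I J ≫ pullback.fst f g) ⊔
        J.comap (π ≫ ModPair.mprodι f g I J ≫ pullback.snd f g) := by
    rw [ModPair.prodCentre, (Scheme.IdealSheafData.map_gc π).l_sup]
    simp only [Scheme.IdealSheafData.comap_comp]
  refine ⟨?_, e ▸ h.1.1⟩
  rw [← e, h.2]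
  simp only [Scheme.IdealSheafData.comap_comp]

lemma isEffCartier_mul (hI : BlowUp.IsEffCartierIdeal I) (hJ : BlowUp.IsEffCartierIdeal J)
    (h : ModPair.IsAmbProd f g I J π K) : BlowUp.IsEffCartierIdeal K := by
  refine EffCartier.factor_left (𝓙 := (ModPair.prodCentre f g I J).comap π) ?_
  rw [h.2]
  exact EffCartier.mul (Basic.isEffCartierIdeal_comap h.1 (isEffCartier_fst hI hJ))
    (Basic.isEffCartierIdeal_comap h.1 (isEffCartier_snd hI hJ))

lemma le_fst (h : ModPair.IsAmbProd f g I J π K) :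
    K ≤ I.comap (π ≫ ModPair.mprodι f g I J ≫ pullback.fst f g) :=
  Divide.le_left (mul_eq h).2 (mul_eq h).1

lemma le_snd (h : ModPair.IsAmbProd f g I J π K) :
    K ≤ J.comap (π ≫ ModPair.mprodι f g I J ≫ pullback.snd f g) :=
  Divide.le_right (mul_eq h).2 (mul_eq h).1

lemma interior_eq (h : ModPair.IsAmbProd f g I J π K) :
    ModPair.interior K = (π ≫ ModPair.mprodι f g I J) ⁻¹ᵁ ModPair.prodInterior f g I J := by
  ext x
  rw [SetLike.mem_coe, SetLike.mem_coe, Dense.mem_interior,
    Divide.support_eq (mul_eq h).2 (mul_eq h).1]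
  simp only [Scheme.IdealSheafData.support_comap]
  exact not_or

lemma isIso_restrict (hI : BlowUp.IsEffCartierIdeal I) (hJ : BlowUp.IsEffCartierIdeal J)
    (h : ModPair.IsAmbProd f g I J π K) :
    IsIso ((π ≫ ModPair.mprodι f g I J) ∣_ ModPair.prodInterior f g I J) := by
  have := isAffineHom_prodInterior (f := f) (g := g) hI hJ
  rw [morphismRestrict_comp]
  refine IsIso.comp_isIso' (Basic.isIso_restrict h.1 _ ?_) (Image.isIso_imageι_restrict _)
  rw [Set.disjoint_left]
  intro x hx hx'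
  have h1 : x ∈ (I.comap (ModPair.mprodι f g I J ≫ pullback.fst f g)).support :=
    Scheme.IdealSheafData.support_antitone le_sup_left hx'
  rw [Scheme.IdealSheafData.support_comap] at h1
  exact hx.1 h1

/-- Ambient products exist. -/
lemma exists_isAmbProd (hI : BlowUp.IsEffCartierIdeal I) (hJ : BlowUp.IsEffCartierIdeal J) :
    ∃ (Y : Scheme.{u}) (π : Y ⟶ ModPair.mprod f g I J) (K : Y.IdealSheafData),
      ModPair.IsAmbProd f g I J π K := by
  obtain ⟨Y, π, hπ⟩ := Glue.exists_isBlowUp _ (ModPair.prodCentre f g I J)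
  refine ⟨Y, π, Divide.quot _ _ (Divide.isFiniteTypeIdeal_of_effCartier hπ.1), hπ,
    Divide.quot_mul_eq hπ.1 ?_⟩
  exact (Divide.mul_le_left _ _).trans (Scheme.IdealSheafData.comap_mono π le_sup_left)

lemma isProper_blowUp (hI : BlowUp.IsEffCartierIdeal I) (hJ : BlowUp.IsEffCartierIdeal J)
    (h : ModPair.IsAmbProd f g I J π K) : IsProper π :=
  BlowUpProper.Basic.isProper h.1 (isFiniteType_prodCentre hI hJ)

/-- Uniqueness for morphisms into an ambient product. -/
lemma hom_ext (hI : BlowUp.IsEffCartierIdeal I) (hJ : BlowUp.IsEffCartierIdeal J)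
    (h : ModPair.IsAmbProd f g I J π K) {IW : W.IdealSheafData}
    (hW : BlowUp.IsEffCartierIdeal IW) {c₁ c₂ : W ⟶ Y}
    (h₁ : ModPair.IsAmbient IW K c₁) (h₂ : ModPair.IsAmbient IW K c₂)
    (he : c₁ ≫ π ≫ ModPair.mprodι f g I J = c₂ ≫ π ≫ ModPair.mprodι f g I J) : c₁ = c₂ := by
  have := isProper_blowUp hI hJ h
  have := Dense.isSchemeTheoreticallyDominant_interior hW
  have := isIso_restrict hI hJ h
  refine Dense.hom_ext (s := π ≫ ModPair.mprodι f g I J) he (ModPair.interior IW).ι ?_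
  have hle : ∀ c : W ⟶ Y, ModPair.IsAmbient IW K c → ModPair.interior IW ≤
      c ⁻¹ᵁ ((π ≫ ModPair.mprodι f g I J) ⁻¹ᵁ ModPair.prodInterior f g I J) := fun c hc => by
    rw [← interior_eq h]
    exact Dense.interior_le hc
  rw [← Scheme.Hom.resLE_comp_ι c₁ (hle c₁ h₁), ← Scheme.Hom.resLE_comp_ι c₂ (hle c₂ h₂)]
  congr 1
  rw [← cancel_mono ((π ≫ ModPair.mprodι f g I J) ∣_ ModPair.prodInterior f g I J),
    ← cancel_mono (ModPair.prodInterior f g I J).ι]
  simp only [Category.assoc, morphismRestrict_ι, Scheme.Hom.resLE_comp_ι_assoc, he]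

/-- A morphism to the fibre product satisfying both modulus conditions lifts, after an admissible
blow-up of the source, to the ambient product. -/
lemma exists_lift (hI : BlowUp.IsEffCartierIdeal I) (hJ : BlowUp.IsEffCartierIdeal J)
    (h : ModPair.IsAmbProd f g I J π K) {IW : W.IdealSheafData}
    (hW : BlowUp.IsEffCartierIdeal IW) (a : W ⟶ X) (b : W ⟶ T) (ha : ModPair.IsAmbient IW I a)
    (hb : ModPair.IsAmbient IW J b) (hab : a ≫ f = b ≫ g) :
    ∃ (W' : Scheme.{u}) (β : W' ⟶ W) (c : W' ⟶ Y),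
      BlowUp.IsEffCartierIdeal (IW.comap β) ∧ ModPair.IsAdmBlowup (IW.comap β) IW β ∧
      ModPair.IsAmbient (IW.comap β) K c ∧
      c ≫ π ≫ ModPair.mprodι f g I J ≫ pullback.fst f g = β ≫ a ∧
      c ≫ π ≫ ModPair.mprodι f g I J ≫ pullback.snd f g = β ≫ b := by
  obtain ⟨c₁, hc₁⟩ := exists_lift_mprod (I := I) (J := J) hW (pullback.lift a b hab) fun x hx => by
    refine mem_prodInterior.2 ⟨?_, ?_⟩
    · rw [← Scheme.Hom.comp_apply, pullback.lift_fst]; exact Dense.interior_le ha hx
    · rw [← Scheme.Hom.comp_apply, pullback.lift_snd]; exact Dense.interior_le hb hx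
  have hca : c₁ ≫ ModPair.mprodι f g I J ≫ pullback.fst f g = a := by
    rw [← Category.assoc, hc₁, pullback.lift_fst]
  have hcb : c₁ ≫ ModPair.mprodι f g I J ≫ pullback.snd f g = b := by
    rw [← Category.assoc, hc₁, pullback.lift_snd]
  have hC : (ModPair.prodCentre f g I J).comap c₁ = I.comap a ⊔ J.comap b := by
    rw [ModPair.prodCentre, (Scheme.IdealSheafData.map_gc c₁).l_sup,
      ← Scheme.IdealSheafData.comap_comp, ← Scheme.IdealSheafData.comap_comp, hca, hcb]
  have haI := Groth.Agent.S18731.result IW I hW hI a ha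
  have hbJ := Groth.Agent.S18731.result IW J hW hJ b hb
  obtain ⟨W', β, hβ⟩ := Glue.exists_isBlowUp W (I.comap a ⊔ J.comap b)
  have hC' : BlowUp.IsEffCartierIdeal ((ModPair.prodCentre f g I J).comap (β ≫ c₁)) := by
    rw [Scheme.IdealSheafData.comap_comp, hC]
    exact hβ.1
  obtain ⟨c, hc, -⟩ := h.1.2 W' (β ≫ c₁) hC'
  have hca' : c ≫ π ≫ ModPair.mprodι f g I J ≫ pullback.fst f g = β ≫ a := by
    rw [reassoc_of% hc, hca]
  have hcb' : c ≫ π ≫ ModPair.mprodι f g I J ≫ pullback.snd f g = β ≫ b := by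
    rw [reassoc_of% hc, hcb]
  refine ⟨W', β, c, Basic.isEffCartierIdeal_comap hβ hW, ⟨rfl, ?_, ?_⟩, ?_, hca', hcb'⟩
  · exact BlowUpProper.Basic.isProper hβ (Divide.isFiniteTypeIdeal_sup haI hbJ)
  · refine Basic.isIso_restrict hβ _ (Set.disjoint_left.2 fun x hx hx' => hx ?_)
    exact Scheme.IdealSheafData.support_antitone (ha.trans le_sup_left) hx'
  · obtain ⟨hmul, hE⟩ := mul_eq h
    have e1 : (I.comap (π ≫ ModPair.mprodι f g I J ≫ pullback.fst f g)).comap c =
        (I.comap a).comap β := by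
      rw [← Scheme.IdealSheafData.comap_comp, ← Scheme.IdealSheafData.comap_comp, hca']
    have e2 : (J.comap (π ≫ ModPair.mprodι f g I J ≫ pullback.snd f g)).comap c =
        (J.comap b).comap β := by
      rw [← Scheme.IdealSheafData.comap_comp, ← Scheme.IdealSheafData.comap_comp, hcb']
    refine Divide.le_of_le_of_le (A := (I.comap a).comap β) (B := (J.comap b).comap β) ?_ ?_
      (Scheme.IdealSheafData.comap_mono β ha) (Scheme.IdealSheafData.comap_mono β hb)
    · exact (Scheme.IdealSheafData.map_gc β).l_sup (a₁ := I.comap a) (a₂ := J.comap b) ▸ hβ.1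
    · rw [← e1, ← e2, ← Comap.comap_mul, ← hmul, Comap.comap_mul,
        (Scheme.IdealSheafData.map_gc c).l_sup]

end Groth.Agent.ModPairLib.Product
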